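import Mathlib
import Cfsg.Agent.EvenType.ChevTwoTits
import Cfsg.Agent.H55.OutGen
import Cfsg.Agent.Prune
set_option linter.all false
prune_inst 0x7f00000000000000000000000000000000000000000000000000000000000000000000000000000000000000000000000000000000000000000000000000000000000000000000000000000000000000003fffffffffffffffffffffffffffbeffbdffffffff

/-!
# The outer automorphism group of the Tits group has order at most 2
-/

set_option autoImplicit false

namespace Cfsg.Agent.H867.TitsOut

theorem card_out_le {T : Type*} [Group T] (h : Cfsg.Lie.IsoTits T) : Nat.card (Cfsg.Out T) ≤ 2 := by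
  obtain ⟨e⟩ := h
  obtain ⟨e'⟩ := Cfsg.Agent.TitsK.exists_equiv
  have hfin : Finite Cfsg.Agent.FourTwo.Base.LL := by infer_instance
  have h1 : Nat.card (Cfsg.Out ↥Cfsg.Agent.TitsK.TT) ∣ 2 := Cfsg.Agent.TitsK.tdata.index_inn
  have h2 : T ≃* ↥Cfsg.Agent.TitsK.TT := e.trans e'
  have h3 := H55.OutGen.card_out_congr (H := ↥Cfsg.Agent.TitsK.TT) h2
  exact h3.le.trans (Nat.le_of_dvd (by norm_num) h1)

end Cfsg.Agent.H867.TitsOut
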