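import Cfsg.Agent.H834.AGrp
import Cfsg.Agent.H424.Spr.Two
import Cfsg.Agent.R01.Fi22Facts
import Cfsg.Agent.Lib.PermNetFast
import Cfsg.Agent.FastGrp
import Cfsg.Agent.Prune
set_option linter.all false
prune_inst 0x7f00000000000000000000000000000000000000000000000000000000000000000000000000000000000000000000000000000000000000000000000000000000000000000000000000000000000000003fffffffffffffffffffffffffffbeffbdffffffff
open scoped Cfsg.Agent.FastGrp

/-- decoders of the packed data (elaboration time only) -/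
private noncomputable def pk61d (b S i : Nat) : Nat := Nat.mod (Nat.shiftRight S (Nat.mul b i)) (Nat.shiftLeft (nat_lit 1) b)
private noncomputable def pk61c {α : Type} (t : Nat) (a : α) (f : Nat → α) : α := Nat.rec a (fun k _ => f k) t
private noncomputable def pk61f {α : Type} (t : Nat) (f : Nat → α) : α := Nat.rec (f Nat.zero) (fun k _ => f (Nat.succ k)) t
private noncomputable def pk61l {α : Type} (f : Nat → α) (s e : Nat) (tl : List α) : List α :=
  pk61f e fun e => Nat.rec tl (fun k ih => List.cons (pk61f (Nat.sub e (Nat.succ k)) f) ih) (Nat.sub e s)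

/-!
# `Spr Fi22` (helper867, task 5127, S3938, hub helper609)

`s` is an element of order 22, `z = s ^ 11` a transposition, `Δ` the set of the 3510 transpositions. A subgroup `K` containing `s` and
moving `z` contains a transposition `t` not commuting with `z`: the orbit of `z` under `K` is invariant under `s`, and every orbit of
`s` on the transpositions commuting with `z` contains a noncommuting pair. For each of the 128 orbits of `s` on the transpositions
`t` not commuting with `z` a path shows `⟨s, t⟩ = Fi22`. Hence the centralizer of `z` is the only maximal subgroup containing `s`.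
-/

set_option autoImplicit false
set_option maxRecDepth 100000
set_option exponentiation.threshold 5000
set_option linter.constructorNameAsVariable false
set_option linter.style.longLine false

namespace Cfsg.Agent.H867.SprFi22

open Cfsg.Spor Cfsg.Spor.Fi22 Cfsg.Agent.Lib.PermNet Cfsg.Agent.Lib.PermNetOrbit Cfsg.Agent.Lib.PermNetFix
open Cfsg.Agent.Fischer Cfsg.Agent.Fischer.Fi22PtsRep
open Cfsg.Agent.H834 Cfsg.Agent.H834.AC

/-! ### The data -/

/-- an element of order 22 -/
def sw : List Gen := [.g, .h, .i, .d, .f, .a, .c, .h, .d, .e, .b]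

/-- carries the point `0` to the point `p0` -/
def zw : List Gen := [.i, .f, .e, .d, .h, .g, .e, .f, .c, .d, .e, .b, .c, .d, .h, .i, .f, .d, .e, .b, .c, .d, .h, .g, .f, .e, .d, .c, .b]

/-- the point of the transposition `s ^ 11` -/
def p0 : ℕ := 3069

/-- the word of the transposition with the point `w 0` times `s ^ k` -/
def refW (w : List Gen) (k : ℕ) : List Gen := w ++ (.a :: (w.reverse ++ rep k sw))

/-- consecutive points of an orbit of `s` -/
noncomputable def chainB (l : List ℕ) : ℕ → Bool :=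
  List.rec (motive := fun _ => ℕ → Bool) (fun _ => true) (fun q _ ih p => and (Nat.beq (ptWord (nw sw) p) q) (ih q)) l

/-- the points of a list are added to a mask -/
noncomputable def maskL (l : List ℕ) : ℕ → ℕ :=
  List.rec (motive := fun _ => ℕ → ℕ) (fun M => M) (fun q _ ih M => seq (Nat.lor M (Nat.shiftLeft 1 q)) ih) l

/-- a path ending in the mask -/
noncomputable def pathB (w : List Gen) (M : ℕ) (l : List (ℕ × ℕ)) : ℕ → Bool :=
  List.rec (motive := fun _ => ℕ → Bool) (fun p => tb M p)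
    (fun e _ ih p => and (Nat.beq (ptWord (nw (refW w e.1)) p) e.2) (ih e.2)) l

/-- an orbit of `s` with a path into the mask: word of the first point, first point, other points, path -/
abbrev Ent := List Gen × ℕ × List ℕ × List (ℕ × ℕ)

/-- check of a list of orbits -/
noncomputable def runB (es : List Ent) : ℕ → ℕ → Bool :=
  List.rec (motive := fun _ => ℕ → ℕ → Bool) (fun M T => Nat.beq M T)
    (fun e _ ih M T => and (Nat.beq (ptWord (nw e.1) 0) e.2.1) (and (pathB e.1 M e.2.2.2 e.2.1)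
      (and (chainB e.2.2.1 e.2.1) (seqB (maskL (e.2.1 :: e.2.2.1) M) fun M' => ih M' T)))) es

/-- check of a list of orbits of transpositions commuting with `z`: word of the first point, first point, other points, exponent -/
noncomputable def runC (es : List (List Gen × ℕ × List ℕ × ℕ)) : ℕ → ℕ → Bool :=
  List.rec (motive := fun _ => ℕ → ℕ → Bool) (fun M T => Nat.beq M T)
    (fun e _ ih M T => and (Nat.beq (ptWord (nw e.1) 0) e.2.1)
      (and (Nat.beq (ptWord (nw (refW zw 0)) e.2.1) e.2.1)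
      (and (seqB (ptWord (nw (rep e.2.2.2 sw)) e.2.1) fun q => !(Nat.beq (ptWord (nw (refW e.1 0)) q) q))
      (and (chainB e.2.2.1 e.2.1) (seqB (maskL (e.2.1 :: e.2.2.1) M) fun M' => ih M' T))))) es

/-- the first orbit -/
def bw : List Gen := [.c, .a, .b]

def bp : ℕ := 4

def bl : List ℕ :=
  [92, 16, 90, 46, 87, 276, 1200, 3168, 2851, 3437, 3186, 2828, 2839, 3249, 3205, 3362, 1897, 747, 325, 95, 14]

def M0 : ℕ := 0x20000000000000000004000000000000000000000000000200000000002000040001000000000000000000000000000000000000000000000000000000000000000000000000000000080080100000000000000000000000000000000000000000000000000000000000000000000000000000000000000000000000000000000000000000000000000000000000000000000000000000000000000000000000000000000000000000000000000000000000000000000000000000000000000002000000000000000000000000000000000000000000000000000000000000000000000000000000000000000000000000000000000000000000000000000000000000000000000000000000000000000000000000000001000000000000000000000000000000000000000000000000000000000000000000000000000000000000000000000000000000000000000008000000000000000000000000000000000000000000000000000000000000000000000000000000000000000000000000000000002000000000001000000000000000000000000000000000000000000000948000000000400000014010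

def M1 : ℕ := 0x4000a0200400200620018000100004080004000000020000080000024000000242000440002091a5028560000004402a1000801004000000004000a0010000100001001800000100800404000008204000480088131100001415442420009021100004920038002000000600208002301004000000082d000200000840114007000004148400000400000082200080000100001000000000010104000a20000008100000000000120824000280100000001048200000c00100080880008c0a50041030010040020002208210000000200080200000010104000000040005080022010002000000000200004080000404008001100000000402000000001008200080a00102010000c000108d42004000412400a400a00000002000400000004300020000100408040001041808000401140000100102000008020489002000000000000010000104000240102008400088010080500280040d100010600000200020804001000000050014800002001000000000004400100000840802000080001001200c0004800400003081220208804140106044202002801804000400208084904808e440000000dc8080001001c03980035337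

def M2 : ℕ := 0xc4080a060040120062401810312002488040504050006000008040202400a8022c20084501025f1a54a8571000024522a1108a41004800500024801a001000190000120180000018080040c00000a20c008480188bf110010b43d4424220490213260869a0039013400c00700208022781005000040082d00620010884011400f0000841c8410a0040000408620008000090000d000024404118104402a6000000a10000004000012892c200280100000001048206000c08128080c80019c0a51c410300900400310022082180000002010862a00121329042140000c204508002241008b04200405420000609400040460802118400001340204004000114c22a0c0a01106010400c340189d46014401512410a504a1400140a40040040083630082004011048804006106180804044d9502851011420088089316890020050000101000100601a4d0425112240c600088310490d21380040d1000136001003100a899420900000007201c8401022410200c0000804408100422840c22a278c060b0a1620c0004820520023081a2460a8151401460c4253002881e0420e600e388ccb66808e440004442df92c4001105c13b80035337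

def M3 : ℕ := 0x2d4880e062044120266c0181039201348804050405040683400a040202400a852ac600c458506df1e74ac571240024522a1108a4320481050102da01a0012001900001a018008c018280042c00004a20d0084809c8bf110650b43d442c220c93213660869a803d073450c8470020a12a781007000070083f80ea481298401145cf0000847c8731b4860400448620028000090060d01022e404118304412e6088400a300000040080128b2e2002811c0040601b48206a02c081a8190c84199caa51c45070290040071022208a3802000420108e2a00927b2d342161008c20550aa4225d128b04200405624144e09418040c75802918c2108134024c00400011cdeea0c2a41186c10400d3441cbd5f816501512410f504e9500140b440420488836f00c200c811258a44286106180884444d950285901542848a29db1f890020050025983000116635b4d072d39224cc6000c83944d2f21380044d1210176e55123120a8f9728940840007a01c8449caa410200d0006c244081c2522860c32a278ea60bee3629c0c048205200230c1a2560ea155481c63c42f7052889e6620f6d0e389ccb76828f440284443df92c5801995c1bb80075b37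

def M4 : ℕ := 0x2d48a9e4620441a1266e418363b20934a904050425040683420a05021b503af5fece82c4faf07df1f76ad57124c836566a531aa4321581050582da03a10138119e0001a018908c038684062c44a64a20d0096809cebf1106d0b53d5c2cb20cd379b660869aa07d27b570c8470260a13a7b10c7080070a83fc0ea4812b8589145cf0609a67e8739b48744014586a04384030d0060d03022e41491ab84c12f68c8400a310000440080138bee220a955c9240625f48216a02c09bac190c841d9eba53d65074a900c0671022a08a780a840420108e3a04967b2d342961898f285d0aa4a25d129b44244c2566414ce0941c060c75916918c23185b6424c84491015ddfeb1c2a6179ed10600d3441dbd5f896501512410f784eb5e0140b4e046078887ef40c200c851a58a642c6106180e95444d954385903572c48a29fb1f9900246d00259c38403166b5b4d072d3d274cc61c8c839c4d2f3138c045d1719176ed5123124edfb728940a40007a03c8c4bcea41060ad0a26d24418dc2522970c36b67cea68bfe7669c8c97830d209336c1aa565fa15d681c63ec2ff0d288be6630f6d4e3b9ccb7682cf440294443df93dd801995c9bf8007db77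

def M5 : ℕ := 0x2d48bbec620451a92e6f419363f20d36b9cc052425149e83e30a05821b547af5feee9acffbf87dfff76af57127cc37f67a5b5ba4b21595172582da43a9713a15de0001a018b08d0b86c4062e44ef4a24d01968adeebf1986d8b57f5c2cf20cd3f9b660a69fa0ff27b572c8470270a73a7bb0c7180071ac3fc8ea7a96bedb9545cf360da67ebf39bca76c0345c6a043a48bed5670d03622e41491abc4c13f6eca505a7508214460a0138bee6b0a95dc934766df58a17b0ad69bac1d1c841d9ebbd3de5876b900c067902ea48a78ca94442010ce3a14de7b2d7429618d8f2ddf4abca3dd12db45e45ca56e495ce0941d060c75d36918e27d85bee34cc4dd1215dfffb1cba697bed5d702d3441dbddfe97d0151a618f784eb5e0144b7e04627a887ef40e3c0c871a78a642d6716180e95444dd54b85907d72c68a29fb5f9b00247d0365bc38c231e6ffb4d072dbf374cd61c8dc79c4daf3138c2c5d37591feed512b125edff72c940b40087e83ccd4bcea59860ed0a67d2663cde65a2970cb7b77ceb68bff76edcdc9fc30d64d33ec3ae565fa35dea1c63ec2ff0d2f8be6732f6d4e3b9ccb76c2cf6612b6c4bff93dd805995dfbf8007db77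

def M6 : ℕ := 0x2d48bbec6a0571a92e7f41977bfe0d36b9ce05a4e754dee3e78a05821f5c7af5feee9bfffbf97dfff7eaf57927dc37f67a7b5badf695951725c2da47a9717a35de4041a019b08d2b86f4062e64ff4a37d01968efeebf1b96dcf57f5dbcfa8cd3f9b664a6bfb9ff27b57aca474270a73a7bb1e7180071bc3fc8eafe9ebfdb9545cf360fa67fbfb9bdaf6c0fd5e6b1c3e48fed56f0f03622e45691bbccd1ff7ecad05a7588216468a11b8fee6b0ab5df9f476eff59e77b1af6bbec1d1e84bd9ffbd7de5876f9a0cc67b02ea4cb78cb946460decebe3dfefbad762be19d8f2ddf6ebca7fd3edf65e75de77e4ddee0945d060c7fd76bb8e27d85bfeb4cc6df9215dffff9ebafb7fef7d712ff461dffdfe97d2351efbdf7a4eb7e2be4bfe8c62fb887ff40f3c4cc71afee65bd6f1e5c9e956c4dd5cb85907f72c6ee29ff5fdb30347d4365bcb8c233e6ffb4f873dbf776ed71ccdd7bd4def31ffc2fdf37799fffd717b125efff76c951bc019fec3ccd4bfeb5b860ef0a67d267bcdff5a2971cf7f7fdebecbff7eedcdc9fe34d64dbbec3bed67fa3dfeabe63ec2ff0daf8fe6772f6f6ebb9eebf6c2cf6f1ffec4bff97ddae5f97dfbf891fdf77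

def M7 : ℕ := 0x2ddebbfc6a1573ab2e7f699ffbfe0f3fb9ce07b4e754dee3ef8f05865fdc7af7ffffdbfffbf97dffffeaf5f9a7dd7ffffb7f5fadfe95971765c6da67a9717ab5de5043a419f18d2b86fc072f64ff5b37d4dd7aeffebf1bfffcf5ff5dbcfe8cf3fdf66db6bfbdff27b57adb4762fcb73e7bb1e7798071febfd9eafe9effdbbdc5efbe0fb6ffffbdbfafec1fd5e6b5c7ed8ffd57f8f23e23e47699ffdef1fffecad05a7dace1646aad1bcfeeff5af5dfdfdf6effd9effbdef6bbec1d1e84bfdffff7ffd976f9b1cc67b96ebccb7edb966478decebe7dffffbffe2fe19f8f7fdf6efca7ff7fff77e75de7fe4ddee0d45d2e0c7fd76ffae27f85bfef4cd6df9235dffffbebffb7fefff712ff4f7fffdfeb7d2371effdf7a4effe2be4bfe8f7afb887ff48fbccec7befff65ffef9e5dded56c4dfdeb85b4fffbc6ee2bffdfdbb03cff4365feb8c233f7fff5faf3dbf7feef71ceff7ff5fff39ffc2fdfbf799fffd757fb27effffed953bc01bfecfecd4bfff5b861ffaa67f377fcdfffa6d79df7f7ffeffdbff7efdcfddfe7ed7cdbbec3bed77febdfeebe6fee6ff9faf8ffe772f7f6efbdffbf6faefef9ffed4fff97dfafffb7dfbfb97fdf7f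

def M8 : ℕ := 0x2dfffffefe57f3ebae7f799fffff8fbffdeea7f5e754dfe3ef8f05865fdc7ef7ffffdffffbfffdfffffeffffbfdf7fffff7f7fbdfff79797e5ceda77bd757af5fed4c7a519f1cd2bc6fdf72f74ffdb77fcdd7aefffffbffffefdff5ffcff8ff3fffeffb6bfbffff7f77affc7fbfdf73e7bb5e7f986f1febff9ebfedefffbbfdfffbe1fb7ffffbdbfffecbfd7e7b7fffdbfff5ffbfe7eb3f5769dffdff9ffffced05efdade7e5fabd5ffffeffdff5dfdfdfffffdfeffffff6fbfe1d1ea4fffffff7fff9f6f9b1cc67f96ebccb7efb966c79fecebf7dfffffffe2fe19fcfffffffffe7ffffffffe75fe7fefddeebdcfd2f2c7fd7fffae27fb5ffff4cd6dfd237fffffbebffb7ffffff92ffcf7fffdfeb7d2b71effff7b6fffe2becbfeaf7bfb9d7ffd8fbeffcffeffffdffff9f7ffed76d6ffdeba5fefffbd7fe3bfffffff03effc77dffbac73bfffff7fef3dbf7feeff1ceff7ffdfffb9ffcbfffff799fffffdffb37fffffed953bc11bffcfedd6bfffdf861ffab67f3fffcffffaed79dfff7ffefffffffeffcfddfffed7fdbfee3bed77febdffebe6feefffdfbf8ffe772fff6efbfffbf6faefefdffff4fff97dfafffb7dfbfb9ffdf7f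

noncomputable def es0 : List Ent :=
  (by
  refine (?fq9001 : ((pk61l (fun i1 => (_root_.Prod.mk ((fun g1 : Nat → Nat => pk61l (fun i2 => (pk61f (pk61d (nat_lit 4) 
    (nat_lit 0x12345734873210123123473281023456123457324371234573214328101234573214378712345731023456732487321123457812345673243512345732487321123456732487321123457321437873243) i2) fun t2_2 => (pk61c (Nat.div t2_2 (nat_lit 4)) (pk61c (Nat.div t2_2 (nat_lit 2)) (pk61c (Nat.div t2_2 (nat_lit 1)) _root_.Cfsg.Spor.Fi22.Gen.a fun _ => _root_.Cfsg.Spor.Fi22.Gen.b) fun _ => (pk61c (Nat.div t2_2 (nat_lit 3)) _root_.Cfsg.Spor.Fi22.Gen.c fun _ => _root_.Cfsg.Spor.Fi22.Gen.d)) fun _ => (pk61c (Nat.div t2_2 (nat_lit 6)) (pk61c (Nat.div t2_2 (nat_lit 5)) _root_.Cfsg.Spor.Fi22.Gen.e fun _ => _root_.Cfsg.Spor.Fi22.Gen.f) fun _ => (pk61c (Nat.div t2_2 (nat_lit 7)) _root_.Cfsg.Spor.Fi22.Gen.g fun _ => (pk61c (Nat.div t2_2 (nat_lit 8)) _root_.Cfsg.Spor.Fi22.Gen.h fun _ => _root_.Cfsg.Spor.Fi22.Gen.i)))))) (g1 i1) (g1 (Nat.succ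 i1)) List.nil) fun j => (pk61d (nat_lit 8) 
    (nat_lit 0xa193908881766969675952423b2f211200) j)) (_root_.Prod.mk (pk61d (nat_lit 10) 
    (nat_lit 0x4cc050f01f24ce70000249824660252bd2f5aaff) i1) (_root_.Prod.mk (pk61l (fun i2 => (pk61d (nat_lit 12) 
    (nat_lit 0x343862c78d5f81e75f5bb4304087db6f850752e2573e1790b62cd17003d328803002004f1065155e99b2d33b2698a7c37f0c67a918443c51020e90dc18a0820a715533e6bbceb9145177fe656754851994c14c5ec75d8aa038c95122960db0c21da08b19517a669adac62cce5908e0a59c70d726c242c1c908502302f05b18b31710e11e1480b509f1df42a7a48a4871d9d9d363a7aa9b1d9f9e92b5154550a94c7f98f59d6324a12ce56f1a432069179cd4c7e341435e25c47b3d01b700101108610d3783d7525557b43daec69aac99aad2b13c7c59f4b109605e00c0080d2453765c1f93f7b67c27c7adec35b3671d4b68cbc2cd608e82410a200914f2d453e2f2549a39b009b0a84a75aeaca9d7db93ae2c9ab5a54e5801d314109c1392ea727be6614c96abfad594da85a47b09b78bc89c0d7175948c1200fd30e5a79fa7ff522735779a34c3e81b43a47245a6a0abc972ba0d3a7b96f22e407e1772cd5f2b6fd01957c5da5ac319c4a358aba9ac42bd57b4b044d60f50872021f43726a9786c77992b94bb4d95b08a22a83acdab09516ad34d30c25a2a5552928ab5caeae0aeca4d56e23426a627c33b3d84f6c06184e59fb8da2e829f46045432f3012683eb8249f88155c464f5899fd8745b550520638c52848232b55c86b8657d744b3da4015539ce9bebd7ae479da2c6d2c0aa977bb8c5354361)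 i2)) (Nat.mul (nat_lit 21) i1) (Nat.mul (nat_lit 21) (Nat.succ i1)) List.nil) (pk61l (fun i2 => (_root_.Prod.mk (pk61d (nat_lit 3) 
    (nat_lit 0x25248c28a252) i2) (pk61d (nat_lit 12) 
    (nat_lit 0x9b10dbc6209f98faea00981b7352e48742e884f82479dd22) i2))) (Nat.mul (nat_lit 1) i1) (Nat.mul (nat_lit 1) (Nat.succ i1)) List.nil))))) (nat_lit 0) (nat_lit 16) List.nil) : List Ent)
    = ?xq9001 → (List Ent)) ?hq9001; (case hq9001 => (set_option maxRecDepth 1000000 in set_option simprocs false in conv => lhs; reduce; dsimp only)); intro _; exact ?xq9001 : List Ent)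

noncomputable def es1 : List Ent :=
  (by
  refine (?fq9002 : ((pk61l (fun i1 => (_root_.Prod.mk ((fun g1 : Nat → Nat => pk61l (fun i2 => (pk61f (pk61d (nat_lit 4) 
    (nat_lit 0x1023473102132431023457310234567345873241234567321458123457324873451234567324381023456734581023456734587324312345673214310234573243810234573248734561234573211234573214873214512345673211023457328) i2) fun t2_2 => (pk61c (Nat.div t2_2 (nat_lit 4)) (pk61c (Nat.div t2_2 (nat_lit 2)) (pk61c (Nat.div t2_2 (nat_lit 1)) _root_.Cfsg.Spor.Fi22.Gen.a fun _ => _root_.Cfsg.Spor.Fi22.Gen.b) fun _ => (pk61c (Nat.div t2_2 (nat_lit 3)) _root_.Cfsg.Spor.Fi22.Gen.c fun _ => _root_.Cfsg.Spor.Fi22.Gen.d)) fun _ => (pk61c (Nat.div t2_2 (nat_lit 6)) (pk61c (Nat.div t2_2 (nat_lit 5)) _root_.Cfsg.Spor.Fi22.Gen.e fun _ => _root_.Cfsg.Spor.Fi22.Gen.f) fun _ => (pk61c (Nat.div t2_2 (nat_lit 7)) _root_.Cfsg.Spor.Fi22.Gen.g fun _ => (pk61c (Nat.div t2_2 (nat_lit 8)) _root_.Cfsg.Spor.Fi22.Gen.h fun _ => _root_.Cfsg.Spor.Fi22.Gen.i))))))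 (g1 i1) (g1 (Nat.succ i1)) List.nil) fun j => (pk61d (nat_lit 8) 
    (nat_lit 0xc1bab2aa9a8d7f7367564a3e2e25140a00) j)) (_root_.Prod.mk (pk61d (nat_lit 10) 
    (nat_lit 0x84280c99d365312c4a383cab299a7146691a866) i1) (_root_.Prod.mk (pk61l (fun i2 => (pk61d (nat_lit 12) 
    (nat_lit 0x542915008c6d3d9eda80b0dc80c7ed6a6fd4185681282a704e06105809a05904a1bb670a7488acd9ae5c5ca58ac9c6b9b356935c1e13774bf8fe7eb1c709d06e1a51c13f32653e766ec45c075e28fa80e5b169362d2482a30f42220380c539c655aefaf4d8071b4fe32469041f916aad6853e04b8901a3670436e42829b34a3005547da72162e42151047f1be5663095c0984bb8a7295285d3423141473256974eea338a960e4964b98e7a9f61d36f3753046e6b41d1aa937ed36623a29c40654a97d9eebf8c586725d63d93811bd46540c55b5af7af67a43353a1b61d21e56e89d7b9dda7cafb5b97f8635f45ba68a7226edce2c1a33d1ad0b00c643680ddb3be39dca0ed02753778d49b18c7dd51bd8aa93f73b852c36c5ad51c25b2521961590b73e4774a99868d10c9fcc3993bb7d96aedc6e5a628b0f80cd382719d2a86f4b58cdb0fb0aa207092c02231243586fb64c54031a2d10fa0b630f4e2b2bb779175f52b01bc3ba6137ae5be35145972c7c8c82c2895e57a1cd0e319f1121ae0c109513a2b464ac94cc17c46cd7b0c39d585947f770c16813e42f58a488530442701d12be9d37a66c1da3d6a692bcb58ecaa6db2bfa41a2d009910750a8d6d20cbfd50ac2c23c8cae3c3c793b373dc23d0c722d3a42981910da1711ea4664e76d34f01c51fb4324ca8f2aa5a6799f6c65f8a78b0b4a7165)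 i2)) (Nat.mul (nat_lit 21) i1) (Nat.mul (nat_lit 21) (Nat.succ i1)) List.nil) (pk61l (fun i2 => (_root_.Prod.mk (pk61d (nat_lit 2) 
    (nat_lit 0xdd9a5555) i2) (pk61d (nat_lit 12) 
    (nat_lit 0x320c5672a729e99ee2b47f0a2030f7c8cc18ec8f23d381e) i2))) (Nat.mul (nat_lit 1) i1) (Nat.mul (nat_lit 1) (Nat.succ i1)) List.nil))))) (nat_lit 0) (nat_lit 16) List.nil) : List Ent)
    = ?xq9002 → (List Ent)) ?hq9002; (case hq9002 => (set_option maxRecDepth 1000000 in set_option simprocs false in conv => lhs; reduce; dsimp only)); intro _; exact ?xq9002 : List Ent)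

noncomputable def es2 : List Ent :=
  (by
  refine (?fq9003 : ((pk61l (fun i1 => (_root_.Prod.mk ((fun g1 : Nat → Nat => pk61l (fun i2 => (pk61f (pk61d (nat_lit 4) 
    (nat_lit 0x123457324812345732437812345673243781234732112345673487321123456732143587324312345673243787321102134567345812345732487310234573248731234738123456732148731023456732435812345673214327873211023410234732) i2) fun t2_2 => (pk61c (Nat.div t2_2 (nat_lit 4)) (pk61c (Nat.div t2_2 (nat_lit 2)) (pk61c (Nat.div t2_2 (nat_lit 1)) _root_.Cfsg.Spor.Fi22.Gen.a fun _ => _root_.Cfsg.Spor.Fi22.Gen.b) fun _ => (pk61c (Nat.div t2_2 (nat_lit 3)) _root_.Cfsg.Spor.Fi22.Gen.c fun _ => _root_.Cfsg.Spor.Fi22.Gen.d)) fun _ => (pk61c (Nat.div t2_2 (nat_lit 6)) (pk61c (Nat.div t2_2 (nat_lit 5)) _root_.Cfsg.Spor.Fi22.Gen.e fun _ => _root_.Cfsg.Spor.Fi22.Gen.f) fun _ => (pk61c (Nat.div t2_2 (nat_lit 7)) _root_.Cfsg.Spor.Fi22.Gen.g fun _ => (pk61c (Nat.div t2_2 (nat_lit 8)) _root_.Cfsg.Spor.Fi22.Gen.h fun _ => _root_.Cfsg.Spor.Fi22.Gen.i))))))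 (g1 i1) (g1 (Nat.succ i1)) List.nil) fun j => (pk61d (nat_lit 8) 
    (nat_lit 0xc6bcb0a39b8d7a695c50433c2e200d0800) j)) (_root_.Prod.mk (pk61d (nat_lit 10) 
    (nat_lit 0x1ccbc37c3b48b59918c42f8d109d133ef4602c34) i1) (_root_.Prod.mk (pk61l (fun i2 => (pk61d (nat_lit 12) 
    (nat_lit 0x3232bc3ed14e2865e32c482e6f55064794b35b7c55d4f9e6ce97033db10909820e1b50d51e856c9fc6e549719e1a22b965ecb8d6e971be7a5ea79c713641b11083866a3c8eb71985b83b9fdb0c836a26d75b38209413ff80970686177a2200bf4805035b299556224b21239d6b5c1569c95a97a9b775ba8f3f111b0600483a85879d4a40a7a8429b65487bd55582396ad86d3c65a6044a63111a131613c73a8bfcf96445e679e61b55abc5d408b67234c78d08bb90c8a56c4c6691e749267609836bf0ab93e824729d43e801c9e54c977a0da0c8ca51670f66053832e18c1f35bfa63c86c00d9e8e12c230d46b62a82d58f2c92cb18229424e3470ee18f37d705cf6b5db82af9caacb39d93571cc1a32c64e49f98ff23f27f0d62ad1b349387f9057d260f54b7956e062c75591ddabd75be4ac3ad3cbab873741f20842dc633afa7e098897c9b86b99806282092113886fab1b2ca41712d0f60471d913229e4475477bf996db5d0a8435b66996b76b2b46869b3498965753d28f2e13a73854764fc59ac11a825a13651ed3d837c4b25b85869eb9efcf86432d23ad66da6cc936a4ab8d919ba9e3be19f74d146d3aa4c35ff76dcffa6e7ef35f0ec4de8fd6663fa2ee31e5147e4d6baaaa45a3bc76af6b167cba213e308d0120750f927a1991833e67a640a8216f480b7ccc528483a337a4852432950a8037)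 i2)) (Nat.mul (nat_lit 21) i1) (Nat.mul (nat_lit 21) (Nat.succ i1)) List.nil) (pk61l (fun i2 => (_root_.Prod.mk (pk61d (nat_lit 2) 
    (nat_lit 0x55955697) i2) (pk61d (nat_lit 12) 
    (nat_lit 0x1a28098231220f429ec001cc905d0a1130f9d95d7d034566) i2))) (Nat.mul (nat_lit 1) i1) (Nat.mul (nat_lit 1) (Nat.succ i1)) List.nil))))) (nat_lit 0) (nat_lit 16) List.nil) : List Ent)
    = ?xq9003 → (List Ent)) ?hq9003; (case hq9003 => (set_option maxRecDepth 1000000 in set_option simprocs false in conv => lhs; reduce; dsimp only)); intro _; exact ?xq9003 : List Ent)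

noncomputable def es3 : List Ent :=
  (by
  refine (?fq9004 : ((pk61l (fun i1 => (_root_.Prod.mk ((fun g1 : Nat → Nat => pk61l (fun i2 => (pk61f (pk61d (nat_lit 4) 
    (nat_lit 0x123457321873245123456734873210123456732145123457324873212345673214325810211234567321458732437812345673214357873243123456732431234567321432731234573214327310234567324354873243102347328102345738123456734587321043210234567324873456) i2) fun t2_2 => (pk61c (Nat.div t2_2 (nat_lit 4)) (pk61c (Nat.div t2_2 (nat_lit 2)) (pk61c (Nat.div t2_2 (nat_lit 1)) _root_.Cfsg.Spor.Fi22.Gen.a fun _ => _root_.Cfsg.Spor.Fi22.Gen.b) fun _ => (pk61c (Nat.div t2_2 (nat_lit 3)) _root_.Cfsg.Spor.Fi22.Gen.c fun _ => _root_.Cfsg.Spor.Fi22.Gen.d)) fun _ => (pk61c (Nat.div t2_2 (nat_lit 6)) (pk61c (Nat.div t2_2 (nat_lit 5)) _root_.Cfsg.Spor.Fi22.Gen.e fun _ => _root_.Cfsg.Spor.Fi22.Gen.f) fun _ => (pk61c (Nat.div t2_2 (nat_lit 7)) _root_.Cfsg.Spor.Fi22.Gen.g fun _ => (pk61c (Nat.div t2_2 (nat_lit 8)) _root_.Cfsg.Spor.Fi22.Gen.h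 fun _ => _root_.Cfsg.Spor.Fi22.Gen.i)))))) (g1 i1) (g1 (Nat.succ i1)) List.nil) fun j => (pk61d (nat_lit 8) 
    (nat_lit 0xe4d5c6baad9e9a867267584a362d241100) j)) (_root_.Prod.mk (pk61d (nat_lit 11) 
    (nat_lit 0x2f85c0560ef2a201a1340411454891bc209812dd120c) i1) (_root_.Prod.mk (pk61l (fun i2 => (pk61d (nat_lit 12) 
    (nat_lit 0x620c3aca1866ccca07a1b8dfc6dcc59a079a88e591931c298f47f41ba1f61d825d4c95fa48e420adbadcc74bd0b257ac9a334c22e2a03d42d82c73bb39631f225178605970bf2846cd0859a4ed9a83f71c37f4874b75f7c2eab65a811d1031fc1c23be39b84ad78d309589ccd15c36acccb7af7d4db4f8c3b4db794df4dd3bd1dc1c427d1f7253308558a26da3b4aa30a77b11c24cbc7cad599a95bc2a602b0220702aa77ec979608227c17bcc64cbd5c259969477d9406393370cc00f4ba8e5c44bbc5ac90d9996db74b5018c8ab4d668394446426df6c3a70cb67677f399d8be7a9cd374768e8e3a86c8d96e67e5df867a8dd5683c5436825da6751a02ec8d7da57973e540d46a4ae8efc4eca7787a3cc08829c4f5844fa29915817f3335cc6d1c9198394fbb1d43a6dab3ae8b12c95930aafd7fb8c62415c1872425ee34e21b3fe7eab56bd993ada0c41a27a31a7dc4bcab67b5d33381361345d06afce0b529c7bb2d35870742cf165b44a4754fb58c9f6cd4abe4f94c84490ba1ab1ca21915f4d22a21432e017966ac21c8fb72826d5575659250f1920500ad2fa4057f1b6abc384ccb4cb281044019a2491303362db16b1052270dd0f75f1991bb3c84cc4b8f946b49a51acfcbe5799cb9aa6d0600b28bc49d5d6971238d2fb58b6cb7b16eba05b6192a8536d8bef61e2e221535670ac0c8a05b4511)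 i2)) (Nat.mul (nat_lit 21) i1) (Nat.mul (nat_lit 21) (Nat.succ i1)) List.nil) (pk61l (fun i2 => (_root_.Prod.mk (pk61d (nat_lit 3) 
    (nat_lit 0x4895092516c9) i2) (pk61d (nat_lit 12) 
    (nat_lit 0x48e569b4f9a99f77004a69c094f21b4f96adb1350075bc55) i2))) (Nat.mul (nat_lit 1) i1) (Nat.mul (nat_lit 1) (Nat.succ i1)) List.nil))))) (nat_lit 0) (nat_lit 16) List.nil) : List Ent)
    = ?xq9004 → (List Ent)) ?hq9004; (case hq9004 => (set_option maxRecDepth 1000000 in set_option simprocs false in conv => lhs; reduce; dsimp only)); intro _; exact ?xq9004 : List Ent)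

noncomputable def es4 : List Ent :=
  (by
  refine (?fq9005 : ((pk61l (fun i1 => (_root_.Prod.mk ((fun g1 : Nat → Nat => pk61l (fun i2 => (pk61f (pk61d (nat_lit 4) 
    (nat_lit 0x102132451023456732438102345732437873211234567324354871023456732435487310234567324354732123457321432712345673214327812345673214325438734561021324351234573214873456123456732143258732435123457321812345673451234567324123457324873456) i2) fun t2_2 => (pk61c (Nat.div t2_2 (nat_lit 4)) (pk61c (Nat.div t2_2 (nat_lit 2)) (pk61c (Nat.div t2_2 (nat_lit 1)) _root_.Cfsg.Spor.Fi22.Gen.a fun _ => _root_.Cfsg.Spor.Fi22.Gen.b) fun _ => (pk61c (Nat.div t2_2 (nat_lit 3)) _root_.Cfsg.Spor.Fi22.Gen.c fun _ => _root_.Cfsg.Spor.Fi22.Gen.d)) fun _ => (pk61c (Nat.div t2_2 (nat_lit 6)) (pk61c (Nat.div t2_2 (nat_lit 5)) _root_.Cfsg.Spor.Fi22.Gen.e fun _ => _root_.Cfsg.Spor.Fi22.Gen.f) fun _ => (pk61c (Nat.div t2_2 (nat_lit 7)) _root_.Cfsg.Spor.Fi22.Gen.g fun _ => (pk61c (Nat.div t2_2 (nat_lit 8)) _root_.Cfsg.Spor.Fi22.Gen.h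 fun _ => _root_.Cfsg.Spor.Fi22.Gen.i)))))) (g1 i1) (g1 (Nat.succ i1)) List.nil) fun j => (pk61d (nat_lit 8) 
    (nat_lit 0xe4dccfbeaf9e8d80715b52422d23190f00) j)) (_root_.Prod.mk (pk61d (nat_lit 11) 
    (nat_lit 0x52325081623fa7e873153a8a0f8f3ca00e21b435986) i1) (_root_.Prod.mk (pk61l (fun i2 => (pk61d (nat_lit 12) 
    (nat_lit 0x8118442e93d79480858d6be937da181c5c99da92dc7bbba3de11905d02c02a26f5a392273e68898c96d9ac80c57f9e5bdebfc89bbd370ec9065c5d429a0e42565278aed73af388698d72683082ad5c97b9759e4cf0c3f921da47dc2b732c18e3506f6d03bcdbced047a38a26c892eb03b1aab7d7bd2e6026402374e1176226546b4bcf574f37e5ef37925032a3134624c58389add9b9336a7c517fc45c3f94ea895a9d7b86777628c28ccc79ca398b96b9e1b80c988a6d1d8032d327c1c853b5d2423777956d84d42a69ae69a267c5de8dea92c7abccbf9b1d3401b026366bc2bb3a6a8c50cad6da5b051b3d13914681c040e3b049faced686c12a8606b8dcdf687cc685857ca028ac88585ed2ba2db48a41a81ca4c8bae1c656b30631295a0bc1d397b779960da4cb15aff9c95d79d285bb2cb7b4e016607d0784612de53c2384a51f13263875829f376abb69dfd0ca9076b2f348d5b948120591cc20c1790a827686a87cca714a2f9244cd5786635976b45f3b6ec048b98b415e3ae571a42b4e7abc9b817d4ea0883257e9c8bf57f987d69674e7e23971931421ee1cf28e26617b626c4ac996ca9d16213bc3a535570bc3492f54f0e50d0149233744c4083140b37b5ed5216c7b1f890d348472f519c2e53b111f20109221635b49ec3dc268c1d07a1c926961b59c025e89097fa9c29cfcf7d2f6032cf)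 i2)) (Nat.mul (nat_lit 21) i1) (Nat.mul (nat_lit 21) (Nat.succ i1)) List.nil) (pk61l (fun i2 => (_root_.Prod.mk (pk61d (nat_lit 3) 
    (nat_lit 0x8d148a2d16da) i2) (pk61d (nat_lit 12) 
    (nat_lit 0x1cd97d16a5ef6d02f31c0cc66332de31ec42bb8151242528) i2))) (Nat.mul (nat_lit 1) i1) (Nat.mul (nat_lit 1) (Nat.succ i1)) List.nil))))) (nat_lit 0) (nat_lit 16) List.nil) : List Ent)
    = ?xq9005 → (List Ent)) ?hq9005; (case hq9005 => (set_option maxRecDepth 1000000 in set_option simprocs false in conv => lhs; reduce; dsimp only)); intro _; exact ?xq9005 : List Ent)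

noncomputable def es5 : List Ent :=
  (by
  refine (?fq9006 : ((pk61l (fun i1 => (_root_.Prod.mk ((fun g1 : Nat → Nat => pk61l (fun i2 => (pk61f (pk61d (nat_lit 4) 
    (nat_lit 0x1021345673451234573214873245612345732437873241234567321873243123473123457381023471023457324371234732187324512345673214354873241021312345673214378732112345732412345673245873211234573243123456734587321) i2) fun t2_2 => (pk61c (Nat.div t2_2 (nat_lit 4)) (pk61c (Nat.div t2_2 (nat_lit 2)) (pk61c (Nat.div t2_2 (nat_lit 1)) _root_.Cfsg.Spor.Fi22.Gen.a fun _ => _root_.Cfsg.Spor.Fi22.Gen.b) fun _ => (pk61c (Nat.div t2_2 (nat_lit 3)) _root_.Cfsg.Spor.Fi22.Gen.c fun _ => _root_.Cfsg.Spor.Fi22.Gen.d)) fun _ => (pk61c (Nat.div t2_2 (nat_lit 6)) (pk61c (Nat.div t2_2 (nat_lit 5)) _root_.Cfsg.Spor.Fi22.Gen.e fun _ => _root_.Cfsg.Spor.Fi22.Gen.f) fun _ => (pk61c (Nat.div t2_2 (nat_lit 7)) _root_.Cfsg.Spor.Fi22.Gen.g fun _ => (pk61c (Nat.div t2_2 (nat_lit 8)) _root_.Cfsg.Spor.Fi22.Gen.h fun _ => _root_.Cfsg.Spor.Fi22.Gen.i))))))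 (g1 i1) (g1 (Nat.succ i1)) List.nil) fun j => (pk61d (nat_lit 8) 
    (nat_lit 0xc7bbaa9a8a847c766a5c49443229190f00) j)) (_root_.Prod.mk (pk61d (nat_lit 10) 
    (nat_lit 0x26e6c7b1bf0603a050a54d75202aba149ce1c96e) i1) (_root_.Prod.mk (pk61l (fun i2 => (pk61d (nat_lit 12) 
    (nat_lit 0xce0b949a8cf8b78e4d067826aa78d932a8b72e69b7485abc1bad456d1b80bd3b6622ad7b39b7d6ff9e289f4f15816ba83aba6ccb71539f3c443d659b0156a3cc3602c82fc4097d97be662bbdc5b67188d873a6bc4ca61ac7c16a884f33493036e9b55d0eaee8f684084dd2973669d36b2d73cd5d1678cfd7294fd4832c107c27b15723526b24547e51a66cafc9db45256b2622445eb15b2210770450310a11ef5a59e79558ce68d4ef33c0de3281751aa4b459b6179629907072e913f0391972f036d46351f7ee9a1d16c9cc9dca07f55983895f02f134507404301b12133245b72bcf2d11a28d17a5694cc12915acbc88baecfe8db4db3f60eb0b31af2fe6299475855208167b255194859551d28023c29244c56127047d44f4d771f4cb6196f14ed75e5563e278fd88b9095cd85d1fc6fd93b6c963d53b6d49204204101311546c3d647a50d5ae973b1ec2db4c9d070d2cc47046f2ef1ff06f3024e3b38bc686a73d6804c483ba0491f841c18a8c80443b53145672fbee3f5200518783d4a7fd523812646ad895f8257586a5a95d5471a6dc7cf1c607f0764a41f03216927cdd4baa2987978cefb197107c0883cd272a69a6156762dd5352845cf5746817138c493e7966bd82bd6c8115d981858e1d42a11271171441113f23126e7bdaa254274f52fd2b865f62bb3cc0f775878af28f1d5a8d452631c)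 i2)) (Nat.mul (nat_lit 21) i1) (Nat.mul (nat_lit 21) (Nat.succ i1)) List.nil) (pk61l (fun i2 => (_root_.Prod.mk (pk61d (nat_lit 3) 
    (nat_lit 0x25b8a12694a3) i2) (pk61d (nat_lit 12) 
    (nat_lit 0x39f88d38dcf556104356181655650d38c72a69a93e2fd3b0) i2))) (Nat.mul (nat_lit 1) i1) (Nat.mul (nat_lit 1) (Nat.succ i1)) List.nil))))) (nat_lit 0) (nat_lit 16) List.nil) : List Ent)
    = ?xq9006 → (List Ent)) ?hq9006; (case hq9006 => (set_option maxRecDepth 1000000 in set_option simprocs false in conv => lhs; reduce; dsimp only)); intro _; exact ?xq9006 : List Ent)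

noncomputable def es6 : List Ent :=
  (by
  refine (?fq9007 : ((pk61l (fun i1 => (_root_.Prod.mk ((fun g1 : Nat → Nat => pk61l (fun i2 => (pk61f (pk61d (nat_lit 4) 
    (nat_lit 0x123457324873245123456732143254873245123456734587324123456734587324312345673287345610234573212345673214354873210451234567321432512345673218123456732143712345673243548732143257102134512123456123457348732102345673245) i2) fun t2_2 => (pk61c (Nat.div t2_2 (nat_lit 4)) (pk61c (Nat.div t2_2 (nat_lit 2)) (pk61c (Nat.div t2_2 (nat_lit 1)) _root_.Cfsg.Spor.Fi22.Gen.a fun _ => _root_.Cfsg.Spor.Fi22.Gen.b) fun _ => (pk61c (Nat.div t2_2 (nat_lit 3)) _root_.Cfsg.Spor.Fi22.Gen.c fun _ => _root_.Cfsg.Spor.Fi22.Gen.d)) fun _ => (pk61c (Nat.div t2_2 (nat_lit 6)) (pk61c (Nat.div t2_2 (nat_lit 5)) _root_.Cfsg.Spor.Fi22.Gen.e fun _ => _root_.Cfsg.Spor.Fi22.Gen.f) fun _ => (pk61c (Nat.div t2_2 (nat_lit 7)) _root_.Cfsg.Spor.Fi22.Gen.g fun _ => (pk61c (Nat.div t2_2 (nat_lit 8)) _root_.Cfsg.Spor.Fi22.Gen.h fun _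 => _root_.Cfsg.Spor.Fi22.Gen.i)))))) (g1 i1) (g1 (Nat.succ i1)) List.nil) fun j => (pk61d (nat_lit 8) 
    (nat_lit 0xd5c6b1a292837a64564b3e27201e180c00) j)) (_root_.Prod.mk (pk61d (nat_lit 11) 
    (nat_lit 0x30b254b79d72da126be90a11235f4a81c006058600a0) i1) (_root_.Prod.mk (pk61l (fun i2 => (pk61d (nat_lit 12) 
    (nat_lit 0x29344e34b25f407751afec1354120d2041e237684eb247ad42538047c2e756387a8e6c3bcb9764834a0683390b920d9caae83e770601af593bd3bcb06d9a603bf5dc559cea73351e48b2281ac2be4696eabac9f44ab3071e91d029731545f31d68c49b89663bacaaa39bf7636f340f3b925e3699d6b88a4476eb8e98e6a132d1803313c35c564ea1ea18b40d21a9ca3ac2aa4bd79b608378dc4cf4d046708f0832b663dc57a1777386eab2d57c37ae7cacaf881f85a87bc43ba12a911a9c5b32a4a5ea9afda9ca878866fccf99c7a061ab2a9ab85f8549649ffb2e8d526d52d4892812b11a82404864ff8e2d41aa078c91b911c5fc734d542d1de21d0f317240380259c23e3181010d83a63844785028c7dacb1459e41546e4501fe0f03cf446716c01d387526989389c3c3089d7c9611b21d8c8eb41237017e0fe74c813741b6bcf370289ab2fbbfabd856a4f94a979b9aa8a8817a7997d637340a40903416ccce8cd6a55daad5b5836ce897dafc46a1dd8190034f16306203d01d04003f0350913e9b58bdd6b6a64c38c48c229b59427b5d656fc16407b0150aa12b5a9bf6cda92c80640080755e6f969e6c955d9f0d1cbea8d93221380681901b23df616afd96f7082e33293104d48f5afba012b321f10b12e2083a14a31b92590b228c1eb36780f8a37c6ca6b446897ba85c9827a86f756042b2240ed)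 i2)) (Nat.mul (nat_lit 21) i1) (Nat.mul (nat_lit 21) (Nat.succ i1)) List.nil) (pk61l (fun i2 => (_root_.Prod.mk (pk61d (nat_lit 3) 
    (nat_lit 0x45245170b664) i2) (pk61d (nat_lit 12) 
    (nat_lit 0x8346eab8e63d9ab85f46e0f3c014cb1382e33223a103a736) i2))) (Nat.mul (nat_lit 1) i1) (Nat.mul (nat_lit 1) (Nat.succ i1)) List.nil))))) (nat_lit 0) (nat_lit 16) List.nil) : List Ent)
    = ?xq9007 → (List Ent)) ?hq9007; (case hq9007 => (set_option maxRecDepth 1000000 in set_option simprocs false in conv => lhs; reduce; dsimp only)); intro _; exact ?xq9007 : List Ent)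

noncomputable def es7 : List Ent :=
  (by
  refine (?fq9008 : ((pk61l (fun i1 => (_root_.Prod.mk ((fun g1 : Nat → Nat => pk61l (fun i2 => (pk61f (pk61d (nat_lit 4) 
    (nat_lit 0x12345732143278712345673243547312345732143873243102345673287345612345673214873243123457321487321012345673214325487321432578123456732435478123456732143254873210456123456732143578732104321234567321435478732456123473287345123457321437812345673214357873214356123457) i2) fun t2_2 => (pk61c (Nat.div t2_2 (nat_lit 4)) (pk61c (Nat.div t2_2 (nat_lit 2)) (pk61c (Nat.div t2_2 (nat_lit 1)) _root_.Cfsg.Spor.Fi22.Gen.a fun _ => _root_.Cfsg.Spor.Fi22.Gen.b) fun _ => (pk61c (Nat.div t2_2 (nat_lit 3)) _root_.Cfsg.Spor.Fi22.Gen.c fun _ => _root_.Cfsg.Spor.Fi22.Gen.d)) fun _ => (pk61c (Nat.div t2_2 (nat_lit 6)) (pk61c (Nat.div t2_2 (nat_lit 5)) _root_.Cfsg.Spor.Fi22.Gen.e fun _ => _root_.Cfsg.Spor.Fi22.Gen.f) fun _ => (pk61c (Nat.div t2_2 (nat_lit 7)) _root_.Cfsg.Spor.Fi22.Gen.g fun _ => (pk61c (Nat.div t2_2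 (nat_lit 8)) _root_.Cfsg.Spor.Fi22.Gen.h fun _ => _root_.Cfsg.Spor.Fi22.Gen.i)))))) (g1 i1) (g1 (Nat.succ i1)) List.nil) fun j => (pk61d (nat_lit 9) 
    (nat_lit 0x823d5ccd562ad1488a3d98c9836150740c00) j)) (_root_.Prod.mk (pk61d (nat_lit 12) 
    (nat_lit 0x17316026419b2361e38761616b864557b0c30e864b017) i1) (_root_.Prod.mk (pk61l (fun i2 => (pk61d (nat_lit 12) 
    (nat_lit 0x1a93dd4eb86c8914cc4353ce3fc7d5d87ca28a76d636a92391990e6513712ac31b68b41d907a6574d718458913aabd52a2a4992bb2f74be8ea86480a3f82a43ec5776656bcc0ec5469f828898d479496fe5bd48f3a04775045fda7f4164132e64642c582c6645c1c0dc59a57d97c6c935d4882f5ce6796472ed3d21cb2183b738b47351949487caa188f872dadc49638ac89b46ae3f43b230b4415332544988574bc43148a2f43d547450c730d3fab1912ac0aebb0e56744d3ac23b4acaf19c19cdbffd18da6c6ac8ad8eb64aa7887a899f5a11ba793493c9769e8b983c14387e9cc29bc9bbb68a1261f1f51a6399800d64a50959b86baa4d92bf174945ba28929a4888d00b54b65bd2c09d94c32a1fa5fa7eac18aa8ba8c0d99a71ad6b35a54a7ca76a46c87d7ea0fb66b3eb33c5a6539debcac1c77686dd27c536b18509745fc965bafbeb9188526bfc105f66c579fc25d92b67bf7bb5da280514d274667b10d8996758881a9b98197c56b0b76d327ec39020318d2073924112c38d8aa4c89d1ed25bd4d2d90465011c0fc0f249da48d77bdcd3663524d0ff7a5998943a62b02929b05950944b477f673b68f7cea53c61ad9b07bbe8846cf07a0a91564558f872d3835ec5098d3da8c634af4513ab4c08fc61c33f06c069)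 i2)) (Nat.mul (nat_lit 21) i1) (Nat.mul (nat_lit 21) (Nat.succ i1)) List.nil) ((fun g1 : Nat → Nat => pk61l (fun i2 => (_root_.Prod.mk (pk61d (nat_lit 3) 
    (nat_lit 0x124d5228926ca) i2) (pk61d (nat_lit 12) 
    (nat_lit 0x28e5722f527ec22dad85621f7f5d92c5f78c63dd256cfbac20d) i2))) (g1 i1) (g1 (Nat.succ i1)) List.nil) fun j => (pk61d (nat_lit 5) 
    (nat_lit 0x8bdac5a928398a418820) j)))))) (nat_lit 0) (nat_lit 15) List.nil) : List Ent)
    = ?xq9008 → (List Ent)) ?hq9008; (case hq9008 => (set_option maxRecDepth 1000000 in set_option simprocs false in conv => lhs; reduce; dsimp only)); intro _; exact ?xq9008 : List Ent)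

def C0 : ℕ := 0x0

def C1 : ℕ := 0x400002000000000000000000080000000010000000000000000000000000020000000000000000000000000000004000002020000000000000000040000000000100080000000000000000000000000000000000020040000000000040000000000000000000000000000000000001000600000000000000000000000000000000000000000000000000a00000000008810200000000000000000000000000000000000000000000000000000000000000010080100000000000000100002200001040000000280100000100800000000040004000000000000000000000000000000000000000100200000000040000000001002004000000040400400000000c001000002000000006000000400000100000000000060000000400010010000000000000000800000004400000000001800000000d4000000200400040000000000024000110060100800200042001400000800000000000880000000408028240000102940000050e0040900c0000000001206200000010000000100300200012802401100028801400000090110002040700188d000910400040905101020000b0006820500048204046002080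

def C2 : ℕ := 0x80080450000660000000000200000008a0200000103840000201080000000004000200000000004020800000008000000048400a3020080280000001002040000600003102080000000000010084000000000000020000020040000001000040000000008000000002008004000000400001400600000000040000000000080000020000100008000000004000a0000000000889420000000000002021000000000100800000000002200020000000000000080401c28010000000000006010006221800114120000028030401214080000000015002400000000000000000000010000001002100000090020008000104000a00000109200c800000040400400000000d001080002004804006000000410000d402401400000600002404100100100002000040800108100002044a0000040001c00000000d40000802004110c00000000004240801100e31008002000420034000008240000020048800000126ac43ae40030122940002079e0054980c00030000512862000800100000001003022000128024011c4128801420014190110002040700188d000910400040905101020000b0006820500048204046002080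

def C3 : ℕ := 0x1000000000a0081450808660000040400201000218aa200810107858002381080000000004000200000100004020800000008040000868401a30200802880400010028404006308031020850030020080120850000000000010200a002007000000100004000000000810038000208c1840a1000610201400610000100040000000040480000020000130008184000024000a00401804c0a894200200000000126a100400002010280000100000a202020000020100000080401c2c05b00000000000601020e22180091433000006803040121408200000001d002601000000000080000000010201801002110030290c20028000515800a00009129200dc00000041400480000004d00308000201482d48e100000410000d412401508404628002704100300100002000060800128929002145a0100042801c40000000fc1003882004538c4000008010c240801100e3100800200046003400000866000002004c800000126ac43ee40030122940002079e0054980c00030000512862000800100000001003022000128024011c4128801420014190110002040700188d000910400040905101020000b0006820500048204046002080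

def C4 : ℕ := 0x1200000101a80c1451808660000070400211580a18ab201c1070fa79a02381080000200004000200000100004020800000808042000868481a312588428a850a012b385ae60e32d4390208d08b0024880322851000004000010200a00300700c000100494040000808850038040208c1844a1806790e014006140121000440200041e0480000424000134028184800024000a00401814c0a89620020060000312fa10252181a0542a0000100200a202020000020100000090401e2e15b00000008000609064e33980691433481046993860131408200000001d01e603000000000180000000018a018010221142302d0d3802800051d804a0000b329202dc80000041400480000006d00308000201482d48e100008490001d413401508404628002704100300100002000060800128929002145a0100042801c40000000fc1003882004538c4000008010c240801100e3100800200046003400000866000002004c800000126ac43ee40030122940002079e0054980c00030000512862000800100000001003022000128024011c4128801420014190110002040700188d000910400040905101020000b0006820500048204046002080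

noncomputable def cs0 : List (List Gen × ℕ × List ℕ × ℕ) :=
  (by
  refine (?fq9009 : ((pk61l (fun i1 => (_root_.Prod.mk ((fun g1 : Nat → Nat => pk61l (fun i2 => (pk61f (pk61d (nat_lit 4) 
    (nat_lit 0x12345673214328123457328734512345732148731023473287345102345734873210234573243781234573487312345732438123456732481234732181234573281023457812347321021324123451023) i2) fun t2_2 => (pk61c (Nat.div t2_2 (nat_lit 4)) (pk61c (Nat.div t2_2 (nat_lit 2)) (pk61c (Nat.div t2_2 (nat_lit 1)) _root_.Cfsg.Spor.Fi22.Gen.a fun _ => _root_.Cfsg.Spor.Fi22.Gen.b) fun _ => (pk61c (Nat.div t2_2 (nat_lit 3)) _root_.Cfsg.Spor.Fi22.Gen.c fun _ => _root_.Cfsg.Spor.Fi22.Gen.d)) fun _ => (pk61c (Nat.div t2_2 (nat_lit 6)) (pk61c (Nat.div t2_2 (nat_lit 5)) _root_.Cfsg.Spor.Fi22.Gen.e fun _ => _root_.Cfsg.Spor.Fi22.Gen.f) fun _ => (pk61c (Nat.div t2_2 (nat_lit 7)) _root_.Cfsg.Spor.Fi22.Gen.g fun _ => (pk61c (Nat.div t2_2 (nat_lit 8)) _root_.Cfsg.Spor.Fi22.Gen.h fun _ => _root_.Cfsg.Spor.Fi22.Gen.i))))))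 (g1 i1) (g1 (Nat.succ i1)) List.nil) fun j => (pk61d (nat_lit 8) 
    (nat_lit 0xa19386796c5f52473c31281f1710090400) j)) (_root_.Prod.mk (pk61d (nat_lit 9) 
    (nat_lit 0x863c5d4d469b3d2e9446158a633130681a07) i1) (_root_.Prod.mk (pk61l (fun i2 => (pk61d (nat_lit 12) 
    (nat_lit 0x30a4a26315d531910f3ef2714842293c85ca7e8d61c069f1bed57218918821e35d305344743cec92763c24c21717d3a935a7384c18f0c818f75a233a1b415016714c44376cd13a964f43271d64906de6ee9257d45e054d3480e213b1d52af1e03ca28a2792f60e10c83c638e3f012c0ca24a52925133015a21450e60aad156427710408e20a0bb12a5aab63ac6798b707662581370640cb0b816920b1d12f82df3cb2302ab0881dd42278578172033913d03604609e08015d52a41e8fb71739e2830ae06724f7dfd76be59f2b9e5730b401e10026e2327454c216c19405502d04d01906522b596a008e922a0e0044079) i2)) (Nat.mul (nat_lit 10) i1) (Nat.mul (nat_lit 10) (Nat.succ i1)) List.nil) (pk61d (nat_lit 2) 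
    (nat_lit 0x65556555) i1))))) (nat_lit 0) (nat_lit 16) List.nil) : List (List Gen × ℕ × List ℕ × ℕ))
    = ?xq9009 → (List (List Gen × ℕ × List ℕ × ℕ))) ?hq9009; (case hq9009 => (set_option maxRecDepth 1000000 in set_option simprocs false in conv => lhs; reduce; dsimp only)); intro _; exact ?xq9009 : List (List Gen × ℕ × List ℕ × ℕ))

noncomputable def cs1 : List (List Gen × ℕ × List ℕ × ℕ) :=
  (by
  refine (?fq9010 : ((pk61l (fun i1 => (_root_.Prod.mk ((fun g1 : Nat → Nat => pk61l (fun i2 => (pk61f (pk61d (nat_lit 4) 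
    (nat_lit 0x12345732438732145123457321437873451234573214378732412345673218732435123456732145873211023457324873245610213456734587324123457321487324512345732143278731234567324354738123457324387324102345732487324102345732487321123456732435781234567324354712345673214378) i2) fun t2_2 => (pk61c (Nat.div t2_2 (nat_lit 4)) (pk61c (Nat.div t2_2 (nat_lit 2)) (pk61c (Nat.div t2_2 (nat_lit 1)) _root_.Cfsg.Spor.Fi22.Gen.a fun _ => _root_.Cfsg.Spor.Fi22.Gen.b) fun _ => (pk61c (Nat.div t2_2 (nat_lit 3)) _root_.Cfsg.Spor.Fi22.Gen.c fun _ => _root_.Cfsg.Spor.Fi22.Gen.d)) fun _ => (pk61c (Nat.div t2_2 (nat_lit 6)) (pk61c (Nat.div t2_2 (nat_lit 5)) _root_.Cfsg.Spor.Fi22.Gen.e fun _ => _root_.Cfsg.Spor.Fi22.Gen.f) fun _ => (pk61c (Nat.div t2_2 (nat_lit 7)) _root_.Cfsg.Spor.Fi22.Gen.g fun _ => (pk61c (Nat.div t2_2 (nat_lit 8)) _root_.Cfsg.Spor.Fi22.Gen.h fun _ => _root_.Cfsg.Spor.Fi22.Gen.i)))))) (g1 i1) (g1 (Nat.succ i1)) List.nil) fun j => (pk61d (nat_lit 8) 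
    (nat_lit 0xfeeddccbbaa9988777675748392a1c0e00) j)) (_root_.Prod.mk (pk61d (nat_lit 10) 
    (nat_lit 0x9d661982398c61a7e1e676dc36054b5291845910) i1) (_root_.Prod.mk (pk61l (fun i2 => (pk61d (nat_lit 12) 
    (nat_lit 0x668c47bec7287897a2d5d7e62902894f6b75bfe5f98b577cc567e138f28d4f7b27b747687a178ad5e7e74293ee3623b3570a328808eec4dcbb99b55f4712f92d95365cb6f0cc9a169fe7252784f2877aa8d83d0dd318f363f25527e3987fbcc096cb69bb04dc4da2136ecb8ad0fae9d627325083343944aa21c542a6fc9295bd74b8993640222f33535371ebcfbd1ce48a8d0568433b2875d8849d7ace5bdbc03bf16232bd457610c2783565875d4e64482851f943c845d8f8ad9819cacdeba541b2721462734197f2ce3b2245e2d653f2b22825db5fbb30bf3a4977b4ad22c1251e449c7396e1a3f65d7604e95c7140) i2)) (Nat.mul (nat_lit 10) i1) (Nat.mul (nat_lit 10) (Nat.succ i1)) List.nil) (pk61d (nat_lit 2) 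
    (nat_lit 0x5669ad55) i1))))) (nat_lit 0) (nat_lit 16) List.nil) : List (List Gen × ℕ × List ℕ × ℕ))
    = ?xq9010 → (List (List Gen × ℕ × List ℕ × ℕ))) ?hq9010; (case hq9010 => (set_option maxRecDepth 1000000 in set_option simprocs false in conv => lhs; reduce; dsimp only)); intro _; exact ?xq9010 : List (List Gen × ℕ × List ℕ × ℕ))

noncomputable def cs2 : List (List Gen × ℕ × List ℕ × ℕ) :=
  (by
  refine (?fq9011 : ((pk61l (fun i1 => (_root_.Prod.mk ((fun g1 : Nat → Nat => pk61l (fun i2 => (pk61f (pk61d (nat_lit 4) 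
    (nat_lit 0x12345673214358732143212345673214354873245612345673214325478734512345673243578732435123456732145873243561234567321435478732412345673214325873243102345673243578732431234573214378732145123456732438732145612345673243873214321234567324358732437123456732143873214512345673243578734512345673243548732112345732438732435) i2) fun t2_2 => (pk61c (Nat.div t2_2 (nat_lit 4)) (pk61c (Nat.div t2_2 (nat_lit 2)) (pk61c (Nat.div t2_2 (nat_lit 1)) _root_.Cfsg.Spor.Fi22.Gen.a fun _ => _root_.Cfsg.Spor.Fi22.Gen.b) fun _ => (pk61c (Nat.div t2_2 (nat_lit 3)) _root_.Cfsg.Spor.Fi22.Gen.c fun _ => _root_.Cfsg.Spor.Fi22.Gen.d)) fun _ => (pk61c (Nat.div t2_2 (nat_lit 6)) (pk61c (Nat.div t2_2 (nat_lit 5)) _root_.Cfsg.Spor.Fi22.Gen.e fun _ => _root_.Cfsg.Spor.Fi22.Gen.f) fun _ => (pk61c (Nat.div t2_2 (nat_lit 7)) _root_.Cfsg.Spor.Fi22.Gen.g fun _ => (pk61c (Nat.div t2_2 (nat_lit 8)) _root_.Cfsg.Spor.Fi22.Gen.h fun _ => _root_.Cfsg.Spor.Fi22.Gen.i)))))) (g1 i1) (g1 (Nat.succ i1)) List.nil)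 fun j => (pk61d (nat_lit 9) 
    (nat_lit 0x13791435f0e4682f15094409b8b6481a88c2200) j)) (_root_.Prod.mk (pk61d (nat_lit 11) 
    (nat_lit 0x98d2f648c3f848fedf53c775ee55c9b8a6c6b696aa76) i1) (_root_.Prod.mk (pk61l (fun i2 => (pk61d (nat_lit 12) 
    (nat_lit 0x711791524814968db4d0975c8b1a3860c6d4bcba5d91aa68adda2bb859026ddcf4d199108b8879d28c0b89e60752f445641cc8a15a09ac5b2d5444ec673761889a5caf08ddcfb8f95e76127d6ba3d46c68637adfb20d8d9393fd954a10bc2d3e64890f7d34395325c65e4608a24cdcb45c056efc1e6545c85a4ac4b5c84bd67b968af7d04d341c4a83b4565953d14cdba5b64943453952b59367d6abccd99e969b3b8b24a93c05dd674b5ece64bb90378bcc77464ce3b56259069a694ed7cb51a3e6365375763689d8b50a43b7f3734d830639a81db84d0b9ec860a377de45d5343c94377d1d6f83d76fa29bf44102ae) i2)) (Nat.mul (nat_lit 10) i1) (Nat.mul (nat_lit 10) (Nat.succ i1)) List.nil) (pk61d (nat_lit 2) 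
    (nat_lit 0x57555d5a) i1))))) (nat_lit 0) (nat_lit 16) List.nil) : List (List Gen × ℕ × List ℕ × ℕ))
    = ?xq9011 → (List (List Gen × ℕ × List ℕ × ℕ))) ?hq9011; (case hq9011 => (set_option maxRecDepth 1000000 in set_option simprocs false in conv => lhs; reduce; dsimp only)); intro _; exact ?xq9011 : List (List Gen × ℕ × List ℕ × ℕ))

noncomputable def cs3 : List (List Gen × ℕ × List ℕ × ℕ) :=
  (by
  refine (?fq9012 : ((pk61l (fun i1 => (_root_.Prod.mk ((fun g1 : Nat → Nat => pk61l (fun i2 => (pk61f (pk61d (nat_lit 4) 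
    (nat_lit 0x1234567321435873214325673451234567321435487321043547381234567321432587321043215712345673214325487321432573123456732143254387321432731234567321487321043547321234567321435478732435612345673214354787321432123456732438732143254312345673243548732143251234567321873243547321123456732435873210432123456732435787321432123456732148732435473123456732145873214325) i2) fun t2_2 => (pk61c (Nat.div t2_2 (nat_lit 4)) (pk61c (Nat.div t2_2 (nat_lit 2)) (pk61c (Nat.div t2_2 (nat_lit 1)) _root_.Cfsg.Spor.Fi22.Gen.a fun _ => _root_.Cfsg.Spor.Fi22.Gen.b) fun _ => (pk61c (Nat.div t2_2 (nat_lit 3)) _root_.Cfsg.Spor.Fi22.Gen.c fun _ => _root_.Cfsg.Spor.Fi22.Gen.d)) fun _ => (pk61c (Nat.div t2_2 (nat_lit 6)) (pk61c (Nat.div t2_2 (nat_lit 5)) _root_.Cfsg.Spor.Fi22.Gen.e fun _ => _root_.Cfsg.Spor.Fi22.Gen.f) fun _ => (pk61c (Nat.div t2_2 (nat_lit 7)) _root_.Cfsg.Spor.Fi22.Gen.g fun _ => (pk61c (Nat.div t2_2 (nat_lit 8)) _root_.Cfsg.Spor.Fi22.Gen.h fun _ => _root_.Cfsg.Spor.Fi22.Gen.i))))))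 (g1 i1) (g1 (Nat.succ i1)) List.nil) fun j => (pk61d (nat_lit 9) 
    (nat_lit 0xb051655107b37188ad4b200d4541f8a82a00) j)) (_root_.Prod.mk (pk61d (nat_lit 12) 
    (nat_lit 0xa139e089987585575a63462f5e55cd5c351350b4f84e8) i1) (_root_.Prod.mk (pk61l (fun i2 => (pk61d (nat_lit 12) 
    (nat_lit 0xb9bbb9a73b7ccd7d45a98bc7be2be8b57ce1b1cb7eb73b42bfba8ea6ab06abad90badbe0cd89bda0bba4d089a8a19bdfd2cbbbba8d23d82b91ceed24966b53bc0b9cb3f8b094b97ea0aa9eb8195db99d98ca5a2ea7bad0784b5f7806ac79b986d70893a9b9ddb8bd1b72463073c63e78e9ea7f875765274a8eda23ba9d448bc77f772cfa9a58bd9c6b95b31771894abbd8ba528d166188c6e45fe882792a1adb1ced7dd6837e5b97d26bd688b6e2737cd5cfc9087316e360b8d27d85e17406d58a175064d57567f73fcddc2f89cce787e8b3a14babbc9c19b29b7a9aeb929a77b3) i2)) (Nat.mul (nat_lit 10) i1) (Nat.mul (nat_lit 10) (Nat.succ i1)) List.nil) (pk61d (nat_lit 2) 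
    (nat_lit 0x1a555556) i1))))) (nat_lit 0) (nat_lit 15) List.nil) : List (List Gen × ℕ × List ℕ × ℕ))
    = ?xq9012 → (List (List Gen × ℕ × List ℕ × ℕ))) ?hq9012; (case hq9012 => (set_option maxRecDepth 1000000 in set_option simprocs false in conv => lhs; reduce; dsimp only)); intro _; exact ?xq9012 : List (List Gen × ℕ × List ℕ × ℕ))

/-- the points of the generators: word, point, path from `bp`, end of the path, exponent -/
def gt : Gen → List Gen × ℕ × List (ℕ × ℕ) × ℕ × ℕ
  | .a => ([], 0, [(3, 49), (4, 462), (1, 1516), (4, 888)], 888, 5)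
  | .b => ([.a, .b], 2, [(2, 7), (5, 1638), (1, 3009), (2, 388), (2, 19), (1, 34), (2, 2)], 2, 0)
  | .c => ([.b, .c, .a, .b], 6, [(2, 7), (5, 1638), (1, 3009), (2, 388), (2, 19), (1, 34)], 34, 2)
  | .d => ([.c, .d, .b, .c, .a, .b], 16, [], 4, 2)
  | .e => ([.d, .e, .c, .d, .b, .c, .a, .b], 40, [(6, 180), (7, 443)], 443, 2)
  | .f => ([.e, .f, .d, .e, .c, .d, .b, .c, .a, .b], 88, [(8, 3351), (4, 2246)], 2246, 7)
  | .g => ([.f, .g, .e, .f, .d, .e, .c, .d, .b, .c, .a, .b], 154, [(8, 3351), (4, 2246)], 2246, 6)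
  | .h => ([.d, .h, .c, .d, .b, .c, .a, .b], 43, [(2, 7), (5, 1638), (1, 3009), (2, 388), (2, 19), (1, 34)], 34, 1)
  | .i => ([.h, .i, .d, .h, .c, .d, .b, .c, .a, .b], 92, [], 4, 1)

/-- a path with a given end -/
noncomputable def pathE (w : List Gen) (T : ℕ) (l : List (ℕ × ℕ)) : ℕ → Bool :=
  List.rec (motive := fun _ => ℕ → Bool) (fun p => Nat.beq p T)
    (fun e _ ih p => and (Nat.beq (ptWord (nw (refW w e.1)) p) e.2) (ih e.2)) l

/-- the check for a generator -/
noncomputable def genB (x : Gen) : Bool :=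
  and (eqB [x] (refW (gt x).1 0)) (and (Nat.beq (ptWord (nw (gt x).1) 0) (gt x).2.1)
    (and (pathE bw (gt x).2.2.2.1 (gt x).2.2.1 bp)
      (Nat.beq (ptWord (nw (rep (gt x).2.2.2.2 sw)) (gt x).2.2.2.1) (gt x).2.1)))

theorem chk_z : eqB (rep 11 sw) (refW zw 0) = true := by (rewrite [show @Cfsg.Agent.H834.AC.eqB = delta% @Cfsg.Agent.H834.AC.eqB from by delta Cfsg.Agent.H834.AC.eqB; rfl, show @Cfsg.Agent.H834.AC.eqL = delta% @Cfsg.Agent.H834.AC.eqL from by delta Cfsg.Agent.H834.AC.eqL; rfl, Cfsg.Agent.Lib.PermNetFast.ptWord_fast]; decide +kernel)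
theorem chk_p0 : Nat.beq (ptWord (nw zw) 0) p0 = true := by decide +kernel
theorem chk_bw : Nat.beq (ptWord (nw bw) 0) bp = true := by decide +kernel
theorem chk_bl : chainB bl bp = true := by decide +kernel
theorem chk_bm : Nat.beq (maskL (bp :: bl) 0) M0 = true := by decide +kernel
theorem chk_ga : genB .a = true := by decide +kernel
theorem chk_gb : genB .b = true := by decide +kernel
theorem chk_gc : genB .c = true := by decide +kernel
theorem chk_gd : genB .d = true := by decide +kernel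
theorem chk_ge : genB .e = true := by decide +kernel
theorem chk_gf : genB .f = true := by decide +kernel
theorem chk_gg : genB .g = true := by (rewrite [show @Cfsg.Agent.H867.SprFi22.genB = delta% @Cfsg.Agent.H867.SprFi22.genB from by delta Cfsg.Agent.H867.SprFi22.genB; rfl, show @Cfsg.Agent.H867.SprFi22.pathE = delta% @Cfsg.Agent.H867.SprFi22.pathE from by delta Cfsg.Agent.H867.SprFi22.pathE; rfl, show @Cfsg.Agent.H834.AC.eqB = delta% @Cfsg.Agent.H834.AC.eqB from by delta Cfsg.Agent.H834.AC.eqB; rfl, show @Cfsg.Agent.H834.AC.eqL = delta% @Cfsg.Agent.H834.AC.eqL from by delta Cfsg.Agent.H834.AC.eqL; rfl, Cfsg.Agent.Lib.PermNetFast.ptWord_fast]; decide +kernel)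
theorem chk_gh : genB .h = true := by (rewrite [show @Cfsg.Agent.H867.SprFi22.genB = delta% @Cfsg.Agent.H867.SprFi22.genB from by delta Cfsg.Agent.H867.SprFi22.genB; rfl, show @Cfsg.Agent.H867.SprFi22.pathE = delta% @Cfsg.Agent.H867.SprFi22.pathE from by delta Cfsg.Agent.H867.SprFi22.pathE; rfl, show @Cfsg.Agent.H834.AC.eqB = delta% @Cfsg.Agent.H834.AC.eqB from by delta Cfsg.Agent.H834.AC.eqB; rfl, show @Cfsg.Agent.H834.AC.eqL = delta% @Cfsg.Agent.H834.AC.eqL from by delta Cfsg.Agent.H834.AC.eqL; rfl, Cfsg.Agent.Lib.PermNetFast.ptWord_fast]; decide +kernel)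
theorem chk_gi : genB .i = true := by decide +kernel
theorem chk_e0 : runB es0 M0 M1 = true := by (rewrite [show @Cfsg.Agent.H867.SprFi22.runB = delta% @Cfsg.Agent.H867.SprFi22.runB from by delta Cfsg.Agent.H867.SprFi22.runB; rfl, show @Cfsg.Agent.H867.SprFi22.chainB = delta% @Cfsg.Agent.H867.SprFi22.chainB from by delta Cfsg.Agent.H867.SprFi22.chainB; rfl, show @Cfsg.Agent.H867.SprFi22.pathB = delta% @Cfsg.Agent.H867.SprFi22.pathB from by delta Cfsg.Agent.H867.SprFi22.pathB; rfl, Cfsg.Agent.Lib.PermNetFast.ptWord_fast]; decide +kernel)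
theorem chk_e1 : runB es1 M1 M2 = true := by (rewrite [show @Cfsg.Agent.H867.SprFi22.runB = delta% @Cfsg.Agent.H867.SprFi22.runB from by delta Cfsg.Agent.H867.SprFi22.runB; rfl, show @Cfsg.Agent.H867.SprFi22.chainB = delta% @Cfsg.Agent.H867.SprFi22.chainB from by delta Cfsg.Agent.H867.SprFi22.chainB; rfl, show @Cfsg.Agent.H867.SprFi22.pathB = delta% @Cfsg.Agent.H867.SprFi22.pathB from by delta Cfsg.Agent.H867.SprFi22.pathB; rfl, Cfsg.Agent.Lib.PermNetFast.ptWord_fast]; decide +kernel)
theorem chk_e2 : runB es2 M2 M3 = true := by (rewrite [show @Cfsg.Agent.H867.SprFi22.runB = delta% @Cfsg.Agent.H867.SprFi22.runB from by delta Cfsg.Agent.H867.SprFi22.runB; rfl, show @Cfsg.Agent.H867.SprFi22.chainB = delta% @Cfsg.Agent.H867.SprFi22.chainB from by delta Cfsg.Agent.H867.SprFi22.chainB; rfl, show @Cfsg.Agent.H867.SprFi22.pathB = delta% @Cfsg.Agent.H867.SprFi22.pathB from by delta Cfsg.Agent.H867.SprFi22.pathB; rfl, Cfsg.Agent.Lib.PermNetFast.ptWord_fast]; decide +kernel)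
theorem chk_e3 : runB es3 M3 M4 = true := by (rewrite [show @Cfsg.Agent.H867.SprFi22.runB = delta% @Cfsg.Agent.H867.SprFi22.runB from by delta Cfsg.Agent.H867.SprFi22.runB; rfl, show @Cfsg.Agent.H867.SprFi22.chainB = delta% @Cfsg.Agent.H867.SprFi22.chainB from by delta Cfsg.Agent.H867.SprFi22.chainB; rfl, show @Cfsg.Agent.H867.SprFi22.pathB = delta% @Cfsg.Agent.H867.SprFi22.pathB from by delta Cfsg.Agent.H867.SprFi22.pathB; rfl, Cfsg.Agent.Lib.PermNetFast.ptWord_fast]; decide +kernel)
theorem chk_e4 : runB es4 M4 M5 = true := by (rewrite [show @Cfsg.Agent.H867.SprFi22.runB = delta% @Cfsg.Agent.H867.SprFi22.runB from by delta Cfsg.Agent.H867.SprFi22.runB; rfl, show @Cfsg.Agent.H867.SprFi22.chainB = delta% @Cfsg.Agent.H867.SprFi22.chainB from by delta Cfsg.Agent.H867.SprFi22.chainB; rfl, show @Cfsg.Agent.H867.SprFi22.pathB = delta% @Cfsg.Agent.H867.SprFi22.pathB from by delta Cfsg.Agent.H867.SprFi22.pathB; rfl, Cfsg.Agent.Lib.PermNetFast.ptWord_fast]; decide +kernel)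
theorem chk_e5 : runB es5 M5 M6 = true := by (rewrite [show @Cfsg.Agent.H867.SprFi22.runB = delta% @Cfsg.Agent.H867.SprFi22.runB from by delta Cfsg.Agent.H867.SprFi22.runB; rfl, show @Cfsg.Agent.H867.SprFi22.chainB = delta% @Cfsg.Agent.H867.SprFi22.chainB from by delta Cfsg.Agent.H867.SprFi22.chainB; rfl, show @Cfsg.Agent.H867.SprFi22.pathB = delta% @Cfsg.Agent.H867.SprFi22.pathB from by delta Cfsg.Agent.H867.SprFi22.pathB; rfl, Cfsg.Agent.Lib.PermNetFast.ptWord_fast]; decide +kernel)
theorem chk_e6 : runB es6 M6 M7 = true := by (rewrite [show @Cfsg.Agent.H867.SprFi22.runB = delta% @Cfsg.Agent.H867.SprFi22.runB from by delta Cfsg.Agent.H867.SprFi22.runB; rfl, show @Cfsg.Agent.H867.SprFi22.chainB = delta% @Cfsg.Agent.H867.SprFi22.chainB from by delta Cfsg.Agent.H867.SprFi22.chainB; rfl, show @Cfsg.Agent.H867.SprFi22.pathB = delta% @Cfsg.Agent.H867.SprFi22.pathB from by delta Cfsg.Agent.H867.SprFi22.pathB; rfl, Cfsg.Agent.Lib.PermNetFast.ptWord_fast]; decide +kernel)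
theorem chk_e7 : runB es7 M7 M8 = true := by (rewrite [show @Cfsg.Agent.H867.SprFi22.runB = delta% @Cfsg.Agent.H867.SprFi22.runB from by delta Cfsg.Agent.H867.SprFi22.runB; rfl, show @Cfsg.Agent.H867.SprFi22.chainB = delta% @Cfsg.Agent.H867.SprFi22.chainB from by delta Cfsg.Agent.H867.SprFi22.chainB; rfl, show @Cfsg.Agent.H867.SprFi22.pathB = delta% @Cfsg.Agent.H867.SprFi22.pathB from by delta Cfsg.Agent.H867.SprFi22.pathB; rfl, Cfsg.Agent.Lib.PermNetFast.ptWord_fast]; decide +kernel)
theorem chk_c0 : runC cs0 C0 C1 = true := by (rewrite [show @Cfsg.Agent.H867.SprFi22.runC = delta% @Cfsg.Agent.H867.SprFi22.runC from by delta Cfsg.Agent.H867.SprFi22.runC; rfl, show @Cfsg.Agent.H867.SprFi22.chainB = delta% @Cfsg.Agent.H867.SprFi22.chainB from by delta Cfsg.Agent.H867.SprFi22.chainB; rfl, Cfsg.Agent.Lib.PermNetFast.ptWord_fast]; decide +kernel)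
theorem chk_c1 : runC cs1 C1 C2 = true := by (rewrite [show @Cfsg.Agent.H867.SprFi22.runC = delta% @Cfsg.Agent.H867.SprFi22.runC from by delta Cfsg.Agent.H867.SprFi22.runC; rfl, show @Cfsg.Agent.H867.SprFi22.chainB = delta% @Cfsg.Agent.H867.SprFi22.chainB from by delta Cfsg.Agent.H867.SprFi22.chainB; rfl, Cfsg.Agent.Lib.PermNetFast.ptWord_fast]; decide +kernel)
theorem chk_c2 : runC cs2 C2 C3 = true := by (rewrite [show @Cfsg.Agent.H867.SprFi22.runC = delta% @Cfsg.Agent.H867.SprFi22.runC from by delta Cfsg.Agent.H867.SprFi22.runC; rfl, show @Cfsg.Agent.H867.SprFi22.chainB = delta% @Cfsg.Agent.H867.SprFi22.chainB from by delta Cfsg.Agent.H867.SprFi22.chainB; rfl, Cfsg.Agent.Lib.PermNetFast.ptWord_fast]; decide +kernel)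
theorem chk_c3 : runC cs3 C3 C4 = true := by (rewrite [show @Cfsg.Agent.H867.SprFi22.runC = delta% @Cfsg.Agent.H867.SprFi22.runC from by delta Cfsg.Agent.H867.SprFi22.runC; rfl, show @Cfsg.Agent.H867.SprFi22.chainB = delta% @Cfsg.Agent.H867.SprFi22.chainB from by delta Cfsg.Agent.H867.SprFi22.chainB; rfl, Cfsg.Agent.Lib.PermNetFast.ptWord_fast]; decide +kernel)
theorem chk_all : Nat.beq (Nat.lor M8 (Nat.lor C4 (Nat.shiftLeft 1 p0))) (Nat.sub (Nat.pow 2 3510) 1) = true := by decide +kernel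

/-! ### The argument -/

section

variable {G : Type*} [Group G] {D : Set G} (m : Model G D)

theorem testBit_maskL (l : List ℕ) (M p : ℕ) : tb (maskL l M) p = true ↔ p ∈ l ∨ tb M p = true := by
  induction l generalizing M with
  | nil =>
    show tb M p = true ↔ _
    simp
  | cons q l ih =>
    show tb (seq (Nat.lor M (Nat.shiftLeft 1 q)) (maskL l)) p = true ↔ _
    rw [seq_eq, ih, tb_eq, tb_eq]
    have h1 : (Nat.lor M (Nat.shiftLeft 1 q)).testBit p = (M.testBit p || (1 <<< q).testBit p) := Nat.testBit_or M (1 <<< q) p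
    have h2 : (1 <<< q).testBit p = decide (q = p) := by
      rw [Nat.one_shiftLeft]; exact Nat.testBit_two_pow
    rw [h1, h2, Bool.or_eq_true, decide_eq_true_eq, List.mem_cons]
    constructor
    · rintro (h | h | rfl)
      · exact Or.inl (Or.inr h)
      · exact Or.inr h
      · exact Or.inl (Or.inl rfl)
    · rintro ((rfl | h) | h)
      · exact Or.inr (Or.inr rfl)
      · exact Or.inl h
      · exact Or.inr (Or.inl h)

/-- the transposition with the point `w 0` -/
theorem wd_refW {w : List Gen} {p : ℕ} (h : m.φ (m.wd w) 0 = p) (k : ℕ) :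
    m.wd (refW w k) = m.t p * m.wd sw ^ k := by
  rw [refW, m.wd_append, m.wd_cons, m.wd_append, m.wd_reverse, m.wd_rep, m.t_eq h, Model.a]
  group

theorem chain_spec {P : ℕ → Prop} (hP : ∀ p, P p → P (m.φ (m.wd sw) p)) {l : List ℕ} {p : ℕ}
    (hc : chainB l p = true) (hp : P p) : ∀ q ∈ p :: l, P q := by
  induction l generalizing p with
  | nil =>
    intro q hq
    rw [List.mem_singleton] at hq
    rw [hq]; exact hp
  | cons r l ih =>
    have h' : and (Nat.beq (ptWord (nw sw) p) r) (chainB l r) = true := hc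
    rw [Bool.and_eq_true, Nat.beq_eq, ← m.φ_wd_apply] at h'
    intro q hq
    rcases List.mem_cons.1 hq with rfl | hq
    · exact hp
    · exact ih h'.2 (h'.1 ▸ hP p hp) q hq

variable {K : Subgroup G} (hs : m.wd sw ∈ K)

include hs in
theorem path_spec {w : List Gen} {r : ℕ} (hw : m.φ (m.wd w) 0 = r) (hr : m.t r ∈ K) {l : List (ℕ × ℕ)} :
    ∀ {p : ℕ}, p < 3510 → m.t p ∈ K → ∀ {M : ℕ}, pathB w M l p = true → ∃ q < 3510, m.t q ∈ K ∧ tb M q = true := by
  induction l with
  | nil =>
    intro p hp hK M h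
    exact ⟨p, hp, hK, h⟩
  | cons e l ih =>
    intro p hp hK M h
    have h' : and (Nat.beq (ptWord (nw (refW w e.1)) p) e.2) (pathB w M l e.2) = true := h
    rw [Bool.and_eq_true, Nat.beq_eq, ← m.φ_wd_apply] at h'
    have hg : m.wd (refW w e.1) ∈ K := by
      rw [wd_refW m hw]
      exact K.mul_mem hr (K.pow_mem hs _)
    refine ih (p := e.2) ?_ ?_ h'.2
    · rw [← h'.1]; exact m.φ_lt _ hp
    · rw [← h'.1, ← m.conj_t _ hp]
      exact K.mul_mem (K.mul_mem hg hK) (K.inv_mem hg)

include hs in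
theorem pathE_spec {w : List Gen} {r : ℕ} (hw : m.φ (m.wd w) 0 = r) (hr : m.t r ∈ K) {l : List (ℕ × ℕ)} :
    ∀ {p : ℕ}, p < 3510 → m.t p ∈ K → ∀ {T : ℕ}, pathE w T l p = true → T < 3510 ∧ m.t T ∈ K := by
  induction l with
  | nil =>
    intro p hp hK T h
    have h' : Nat.beq p T = true := h
    rw [Nat.beq_eq] at h'
    rw [← h']
    exact ⟨hp, hK⟩
  | cons e l ih =>
    intro p hp hK T h
    have h' : and (Nat.beq (ptWord (nw (refW w e.1)) p) e.2) (pathE w T l e.2) = true := h
    rw [Bool.and_eq_true, Nat.beq_eq, ← m.φ_wd_apply] at h'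
    have hg : m.wd (refW w e.1) ∈ K := by
      rw [wd_refW m hw]
      exact K.mul_mem hr (K.pow_mem hs _)
    refine ih (p := e.2) ?_ ?_ h'.2
    · rw [← h'.1]; exact m.φ_lt _ hp
    · rw [← h'.1, ← m.conj_t _ hp]
      exact K.mul_mem (K.mul_mem hg hK) (K.inv_mem hg)

/-- a subgroup containing the generators -/
theorem top_of_gens (h : ∀ x : Gen, m.wd [x] ∈ K) : K = ⊤ := by
  rw [eq_top_iff]
  intro g _
  have h1 : Subgroup.closure (Set.range gen) ≤ K.comap m.e.toMonoidHom := by
    rw [Subgroup.closure_le]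
    rintro _ ⟨x, rfl⟩
    show m.e (gen x) ∈ K
    rw [← m.wd_single]
    exact h x
  have h2 : m.e.symm g ∈ K.comap m.e.toMonoidHom := h1 (by rw [closure_gen]; trivial)
  have h3 : m.e (m.e.symm g) ∈ K := h2
  rwa [MulEquiv.apply_symm_apply] at h3

theorem chk_gen (x : Gen) : genB x = true := by
  cases x
  · exact chk_ga
  · exact chk_gb
  · exact chk_gc
  · exact chk_gd
  · exact chk_ge
  · exact chk_gf
  · exact chk_gg
  · exact chk_gh
  · exact chk_gi

include hs in
theorem base_good (hb : m.t bp ∈ K) : K = ⊤ := by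
  have hbw : m.φ (m.wd bw) 0 = bp := by
    rw [m.φ_wd_apply]; exact Nat.eq_of_beq_eq_true chk_bw
  have hlt : bp < 3510 := by rw [← hbw]; exact m.φ_lt _ (by norm_num)
  refine top_of_gens m fun x => ?_
  have h := chk_gen x
  unfold genB at h
  rw [Bool.and_eq_true, Bool.and_eq_true, Bool.and_eq_true, Nat.beq_eq, Nat.beq_eq, ← m.φ_wd_apply, ← m.φ_wd_apply] at h
  obtain ⟨h1, h2, h3, h4⟩ := h
  obtain ⟨h5, h6⟩ := pathE_spec m hs hbw hb hlt hb h3
  rw [m.eq_of_eqB h1, wd_refW m h2, pow_zero, mul_one, ← h4, ← m.conj_t _ h5, m.wd_rep]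
  exact K.mul_mem (K.mul_mem (K.pow_mem hs _) h6) (K.inv_mem (K.pow_mem hs _))

/-- the transposition of `p` together with `s` generates the group -/
def Good (K : Subgroup G) (p : ℕ) : Prop := p < 3510 ∧ (m.t p ∈ K → K = ⊤)

include hs in
theorem good_shift (p : ℕ) (h : Good m K p) : Good m K (m.φ (m.wd sw) p) := by
  refine ⟨m.φ_lt _ h.1, fun h1 => h.2 ?_⟩
  rw [← m.conj_t _ h.1] at h1
  have h2 := K.mul_mem (K.mul_mem (K.inv_mem hs) h1) hs
  have h3 : (m.wd sw)⁻¹ * (m.wd sw * m.t p * (m.wd sw)⁻¹) * m.wd sw = m.t p := by group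
  rwa [h3] at h2

include hs in
theorem run_spec {es : List Ent} : ∀ {M T : ℕ}, runB es M T = true → (∀ p, tb M p = true → Good m K p) →
    ∀ p, tb T p = true → Good m K p := by
  induction es with
  | nil =>
    intro M T h hM
    have h' : Nat.beq M T = true := h
    rw [Nat.beq_eq] at h'
    rwa [h'] at hM
  | cons e es ih =>
    intro M T h hM
    have h' : and (Nat.beq (ptWord (nw e.1) 0) e.2.1) (and (pathB e.1 M e.2.2.2 e.2.1)
      (and (chainB e.2.2.1 e.2.1) (seqB (maskL (e.2.1 :: e.2.2.1) M) fun M' => runB es M' T))) = true := h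
    rw [seqB_eq, Bool.and_eq_true, Bool.and_eq_true, Bool.and_eq_true, Nat.beq_eq, ← m.φ_wd_apply] at h'
    obtain ⟨h1, h2, h3, h4⟩ := h'
    refine ih h4 fun p hp => ?_
    rw [testBit_maskL] at hp
    rcases hp with hp | hp
    · have hlt : e.2.1 < 3510 := by rw [← h1]; exact m.φ_lt _ (by norm_num)
      refine chain_spec m (good_shift m hs) h3 ⟨hlt, fun hK => ?_⟩ p hp
      obtain ⟨q, -, hqK, hq⟩ := path_spec m hs h1 hK hlt hK h2
      exact (hM q hq).2 hqK
    · exact hM p hp

include hs in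
theorem good_all (p : ℕ) (hp : tb M8 p = true) : Good m K p := by
  have hbw : m.φ (m.wd bw) 0 = bp := by
    rw [m.φ_wd_apply]; exact Nat.eq_of_beq_eq_true chk_bw
  have hlt : bp < 3510 := by rw [← hbw]; exact m.φ_lt _ (by norm_num)
  have h0 : ∀ p, tb M0 p = true → Good m K p := by
    intro p hp
    rw [← Nat.eq_of_beq_eq_true chk_bm, testBit_maskL] at hp
    rcases hp with hp | hp
    · exact chain_spec m (good_shift m hs) chk_bl ⟨hlt, base_good m hs⟩ p hp
    · rw [tb_eq] at hp
      simp at hp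
  exact run_spec m hs chk_e7 (run_spec m hs chk_e6 (run_spec m hs chk_e5 (run_spec m hs chk_e4 (run_spec m hs chk_e3
    (run_spec m hs chk_e2 (run_spec m hs chk_e1 (run_spec m hs chk_e0 h0))))))) p hp

/-- the transposition `s ^ 11` -/
theorem z_eq : m.t p0 = m.wd sw ^ 11 := by
  have h1 : m.φ (m.wd zw) 0 = p0 := by
    rw [m.φ_wd_apply]; exact Nat.eq_of_beq_eq_true chk_p0
  have h2 := m.eq_of_eqB chk_z
  rw [wd_refW m h1, pow_zero, mul_one, m.wd_rep] at h2
  exact h2.symm

/-- `p` is fixed by `z` and its orbit under `s` contains a point `q` not fixed by `t p` -/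
def Com (p : ℕ) : Prop := p < 3510 ∧ m.φ (m.t p0) p = p ∧
  ∃ k : ℕ, m.φ (m.t p) (m.φ (m.wd sw ^ k) p) ≠ m.φ (m.wd sw ^ k) p

theorem com_shift (p : ℕ) (h : Com m p) : Com m (m.φ (m.wd sw) p) := by
  obtain ⟨h1, h2, k, h3⟩ := h
  refine ⟨m.φ_lt _ h1, ?_, k, ?_⟩
  · rw [z_eq] at h2 ⊢
    rw [← Equiv.Perm.mul_apply, ← map_mul, ← pow_succ, pow_succ', map_mul, Equiv.Perm.mul_apply, h2]
  · intro h4
    apply h3
    rw [← m.conj_t _ h1] at h4
    have h4 : m.φ (m.wd sw * m.t p * (m.wd sw)⁻¹ * (m.wd sw ^ k * m.wd sw)) p = m.φ (m.wd sw ^ k * m.wd sw) p := by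
      rw [map_mul, map_mul _ (m.wd sw ^ k), Equiv.Perm.mul_apply, Equiv.Perm.mul_apply]
      exact h4
    have e1 : m.wd sw * m.t p * (m.wd sw)⁻¹ * (m.wd sw ^ k * m.wd sw) = m.wd sw * (m.t p * m.wd sw ^ k) := by
      rw [← pow_succ, pow_succ']; group
    have e2 : m.wd sw ^ k * m.wd sw = m.wd sw * m.wd sw ^ k := by rw [← pow_succ, pow_succ']
    rw [e1, e2] at h4
    have h5 : m.φ (m.wd sw) (m.φ (m.t p) (m.φ (m.wd sw ^ k) p)) = m.φ (m.wd sw) (m.φ (m.wd sw ^ k) p) := by
      rw [map_mul, map_mul, map_mul _ (m.wd sw) (m.wd sw ^ k)] at h4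
      exact h4
    exact (m.φ (m.wd sw)).injective h5

theorem runC_spec {es : List (List Gen × ℕ × List ℕ × ℕ)} : ∀ {M T : ℕ}, runC es M T = true →
    (∀ p, tb M p = true → Com m p) → ∀ p, tb T p = true → Com m p := by
  have hz : m.φ (m.wd zw) 0 = p0 := by
    rw [m.φ_wd_apply]; exact Nat.eq_of_beq_eq_true chk_p0
  induction es with
  | nil =>
    intro M T h hM
    have h' : Nat.beq M T = true := h
    rw [Nat.beq_eq] at h'
    rwa [h'] at hM
  | cons e es ih =>
    intro M T h hM
    have h' : and (Nat.beq (ptWord (nw e.1) 0) e.2.1)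
      (and (Nat.beq (ptWord (nw (refW zw 0)) e.2.1) e.2.1)
      (and (seqB (ptWord (nw (rep e.2.2.2 sw)) e.2.1) fun q => !(Nat.beq (ptWord (nw (refW e.1 0)) q) q))
      (and (chainB e.2.2.1 e.2.1) (seqB (maskL (e.2.1 :: e.2.2.1) M) fun M' => runC es M' T)))) = true := h
    rw [seqB_eq, seqB_eq, Bool.and_eq_true, Bool.and_eq_true, Bool.and_eq_true, Bool.and_eq_true, Nat.beq_eq, Nat.beq_eq,
      Bool.not_eq_true', ← Bool.not_eq_true, Nat.beq_eq, ← m.φ_wd_apply, ← m.φ_wd_apply, ← m.φ_wd_apply,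
      ← m.φ_wd_apply] at h'
    obtain ⟨h1, h2, h3, h4, h5⟩ := h'
    rw [wd_refW m hz, pow_zero, mul_one] at h2
    rw [wd_refW m h1, pow_zero, mul_one, m.wd_rep] at h3
    refine ih h5 fun p hp => ?_
    rw [testBit_maskL] at hp
    rcases hp with hp | hp
    · have hlt : e.2.1 < 3510 := by rw [← h1]; exact m.φ_lt _ (by norm_num)
      exact chain_spec m (com_shift m) h4 ⟨hlt, h2, _, h3⟩ p hp
    · exact hM p hp

theorem com_all (p : ℕ) (hp : tb C4 p = true) : Com m p := by
  have h0 : ∀ p, tb C0 p = true → Com m p := by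
    intro p hp
    rw [tb_eq] at hp
    simp [C0] at hp
  exact runC_spec m chk_c3 (runC_spec m chk_c2 (runC_spec m chk_c1 (runC_spec m chk_c0 h0))) p hp

theorem cover (p : ℕ) (hp : p < 3510) : tb M8 p = true ∨ tb C4 p = true ∨ p = p0 := by
  have h1 := Nat.eq_of_beq_eq_true chk_all
  have h2 : (2 ^ 3510 - 1).testBit p = true := by
    rw [Nat.testBit_two_pow_sub_one]; exact decide_eq_true hp
  have h3 : (M8 ||| (C4 ||| (1 <<< p0))).testBit p = true := by
    have : M8 ||| (C4 ||| (1 <<< p0)) = 2 ^ 3510 - 1 := h1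
    rw [this]; exact h2
  rw [Nat.testBit_or, Nat.testBit_or, Bool.or_eq_true, Bool.or_eq_true] at h3
  rcases h3 with h3 | h3 | h3
  · left; rw [tb_eq]; exact h3
  · right; left; rw [tb_eq]; exact h3
  · right; right
    rw [Nat.one_shiftLeft, Nat.testBit_two_pow, decide_eq_true_eq] at h3
    exact h3.symm

theorem p0_lt : p0 < 3510 := by decide

include hs in
/-- **The only maximal subgroup containing `s` is the centralizer of `z`.** -/
theorem le_cent (hK : K ≠ ⊤) : K ≤ Subgroup.centralizer ({m.t p0} : Set G) := by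
  have hp0 := p0_lt
  have hz : m.t p0 ∈ K := by rw [z_eq]; exact K.pow_mem hs _
  -- transpositions of `K` commute with `z`
  have key : ∀ g ∈ K, m.φ (m.t p0) (m.φ g p0) = m.φ g p0 := by
    intro g hg
    have ht : m.t (m.φ g p0) ∈ K := by
      rw [← m.conj_t _ hp0]; exact K.mul_mem (K.mul_mem hg hz) (K.inv_mem hg)
    rcases cover (m.φ g p0) (m.φ_lt _ hp0) with h | h | h
    · exact absurd ((good_all m hs _ h).2 ht) hK
    · exact (com_all m _ h).2.1
    · rw [h]
      exact (m.comm_iff (m.t p0) hp0).1 rfl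
  intro g hg
  rw [Subgroup.mem_centralizer_singleton_iff, m.comm_iff _ hp0]
  rcases cover (m.φ g p0) (m.φ_lt _ hp0) with h | h | h
  · exfalso
    apply hK
    apply (good_all m hs _ h).2
    rw [← m.conj_t _ hp0]; exact K.mul_mem (K.mul_mem hg hz) (K.inv_mem hg)
  · exfalso
    obtain ⟨-, -, k, h3⟩ := com_all m _ h
    apply h3
    rw [← m.conj_t _ hp0]
    have h4 := key (g⁻¹ * m.wd sw ^ k * g) (K.mul_mem (K.mul_mem (K.inv_mem hg) (K.pow_mem hs _)) hg)
    have h5 := congrArg (m.φ g) h4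
    rw [← Equiv.Perm.mul_apply, ← Equiv.Perm.mul_apply, ← Equiv.Perm.mul_apply, ← map_mul, ← map_mul, ← map_mul] at h5
    show (m.φ (g * m.t p0 * g⁻¹) * (m.φ (m.wd sw ^ k) * m.φ g)) p0 = (m.φ (m.wd sw ^ k) * m.φ g) p0
    rw [← map_mul, ← map_mul]
    have e1 : g * m.t p0 * g⁻¹ * (m.wd sw ^ k * g) = g * m.t p0 * (g⁻¹ * m.wd sw ^ k * g) := by group
    have e2 : g * (g⁻¹ * m.wd sw ^ k * g) = m.wd sw ^ k * g := by group
    rw [e1, h5, e2]
  · exact h

end

/-- the model of `Fi22` -/
def mdl : Model Cfsg.Spor.Fi22 {x | ∃ g, x = g * gen .a * g⁻¹} := ⟨MulEquiv.refl _, fun _ => Iff.rfl⟩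

theorem cent_ne_top : Subgroup.centralizer ({mdl.t p0} : Set Cfsg.Spor.Fi22) ≠ ⊤ := by
  intro h
  have h0 := p0_lt
  have h1 : (mdl.wd zw)⁻¹ ∈ Subgroup.centralizer ({mdl.t p0} : Set Cfsg.Spor.Fi22) := by rw [h]; trivial
  rw [Subgroup.mem_centralizer_singleton_iff, mdl.comm_iff _ h0, map_inv, Equiv.Perm.inv_eq_iff_eq] at h1
  have h2 : mdl.φ (mdl.wd zw) 0 = p0 := by
    rw [mdl.φ_wd_apply]; exact Nat.eq_of_beq_eq_true chk_p0
  have h3 : p0 = 0 := (mdl.φ (mdl.wd zw)).injective (h1.symm.trans h2.symm)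
  exact absurd h3 (by decide)

open Cfsg.Agent.H424.Spr in
theorem spr_model : Spr Cfsg.Spor.Fi22 := by
  have hfin : Finite Cfsg.Spor.Fi22 := mdl.finite
  have hsim : IsSimpleGroup Cfsg.Spor.Fi22 := Cfsg.Agent.R01.Fi22Facts.isSimple
  refine spr_of_one ?_ cent_ne_top (s := mdl.wd sw) (fun K hs hK => le_cent mdl hs hK)
  by_contra hcon
  push Not at hcon
  apply cent_ne_top
  rw [Subgroup.eq_top_iff']
  intro g
  rw [Subgroup.mem_centralizer_singleton_iff]
  exact hcon _ _

open Cfsg.Agent.H424.Spr in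
/-- **Row `Fi22` of S3938.** -/
theorem spr_fi22 {T : Type} [Group T] (h : Cfsg.Spor.IsoFi22 T) : Spr T := by
  obtain ⟨e⟩ := h
  exact Spr.congr e.symm spr_model

end Cfsg.Agent.H867.SprFi22

private theorem dce_a338c74993a8 : _root_.True := by
  try have : _root_.True := by simp only [_root_.Cfsg.Agent.H867.SprFi22.refW.eq_1]
  try have : _root_.True := by simp only [_root_.Cfsg.Agent.H867.SprFi22.C0.eq_1]
  exact _root_.True.intro
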